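import Cfsg.Agent.Lib.Block.OddOrth.Witness

/-!
A divisor `(f, 1)` with `f ≠ X ∓ 1` gives a centralising element of determinant one and spinor norm `-1`.
-/

set_option autoImplicit false
set_option linter.unusedSectionVars false

namespace Cfsg.Agent.Block.OddOrth

open Polynomial Module Matrix Cfsg Cfsg.Agent.Classical Cfsg.Agent.Classical.OrthAut
open Cfsg.Agent.Classical.SLClasses Cfsg.Agent.Classical.UnitClasses Cfsg.Agent.UnitaryDetCentralizer
open Cfsg.Agent.Classical.IsometryClasses (rd rinv dmap rd_facts orth_range iso_primary det_ne_zero root_mul_rinv isUnit_root dmap_root dmap_dmap aeval_rinv_cdual linear_facts)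

universe u

variable {F : Type u} [Field F] [Fintype F] {ι : Type} [Fintype ι] [DecidableEq ι] {Q : QuadraticForm F (ι → F)}

theorem isUnit_mk {R P : F[X]} (h : IsCoprime P R) : IsUnit (AdjoinRoot.mk R P) := by
  obtain ⟨a, b, hab⟩ := h
  refine isUnit_iff_exists_inv.2 ⟨AdjoinRoot.mk R a, ?_⟩
  rw [← map_mul, ← map_one (AdjoinRoot.mk R), AdjoinRoot.mk_eq_mk]
  exact ⟨-b, by linear_combination hab⟩

/-- The duality sends a polynomial to its reciprocal up to a unit. -/
theorem dmap_mk_rd {R : F[X]} (h0 : R.coeff 0 ≠ 0) (h : aeval (rinv R) R = 0) {g : F[X]} (hg : g.coeff 0 ≠ 0) :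
    ∃ u : AdjoinRoot R, IsUnit u ∧ AdjoinRoot.mk R (rd g) = u * dmap R R h (AdjoinRoot.mk R g) := by
  letI : Invertible (rinv R) := ⟨AdjoinRoot.root R, root_mul_rinv h0, by rw [mul_comm]; exact root_mul_rinv h0⟩
  have h1 := eval₂_reverse_mul_pow (algebraMap F (AdjoinRoot R)) (rinv R) g
  rw [show ⅟(rinv R) = AdjoinRoot.root R from rfl, ← aeval_def, ← aeval_def, AdjoinRoot.aeval_eq] at h1
  have h3 : dmap R R h (AdjoinRoot.mk R g) = aeval (rinv R) g := by
    rw [← AdjoinRoot.aeval_eq, ← aeval_algHom_apply, dmap_root]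
  refine ⟨algebraMap F _ (g.coeff 0)⁻¹ * AdjoinRoot.root R ^ g.natDegree,
    ((inv_ne_zero hg).isUnit.map _).mul ((isUnit_root h0).pow _), ?_⟩
  rw [h3, ← h1, rd, cdual, RingHom.id_apply, Polynomial.map_id, map_mul, AdjoinRoot.mk_C, ← AdjoinRoot.algebraMap_eq]
  calc algebraMap F (AdjoinRoot R) (g.coeff 0)⁻¹ * AdjoinRoot.mk R g.reverse
      = algebraMap F (AdjoinRoot R) (g.coeff 0)⁻¹ * AdjoinRoot.mk R g.reverse *
        (AdjoinRoot.root R * rinv R) ^ g.natDegree := by rw [root_mul_rinv h0, one_pow, mul_one]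
    _ = _ := by ring

theorem linearMap_mem_range_of_orth {N : ℕ} {T : IsometryClasses.Tri F (1 : F)} (hN : T.n = N) {f : F[X]} (hf : f.Monic)
    (hfi : Irreducible f) (hf0 : f.coeff 0 ≠ 0) {x : Fin T.n → F}
    (h : ∀ y, aeval T.g (rd f) y = 0 → T.B x y = 0) : x ∈ LinearMap.range (aeval T.g f) := by
  obtain ⟨-, -, hm', hi', hf0', -⟩ := rd_facts hf hfi hf0 1
  have hle : ∀ {e : F[X]}, e.Monic → Irreducible e → e.coeff 0 ≠ 0 →
      LinearMap.range (aeval T.g (rd e)) ≤ LinearMap.BilinForm.orthogonal T.B (LinearMap.ker (aeval T.g e)) := by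
    rintro e he hei he0 _ ⟨w, rfl⟩ y hy
    have := orth_range (T := T) (k := 1) he hei he0 (x := y) (by rw [pow_one]; exact hy) w
    rwa [pow_one] at this
  have hff : rd (rd f) = f := cdual_cdual (RingHom.id F) (fun _ => rfl) hf hf0
  have h1 := Submodule.finrank_mono (hle hf hfi hf0)
  have h3 := Submodule.finrank_mono (hle hm' hi' hf0')
  have h4 := hle hm' hi' hf0'
  rw [hff] at h3 h4
  rw [LinearMap.BilinForm.finrank_orthogonal T.nondeg] at h1 h3
  have d1 := LinearMap.finrank_range_add_finrank_ker (aeval T.g f)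
  have d2 := LinearMap.finrank_range_add_finrank_ker (aeval T.g (rd f))
  rw [Submodule.eq_of_le_of_finrank_le h4 (by
    rw [LinearMap.BilinForm.finrank_orthogonal T.nondeg]; omega)]
  exact fun y hy => T.isRefl _ _ (h y hy)

/-- A vector pairing non-trivially with itself in the part of `f`. -/
theorem exists_vector {T : IsometryClasses.Tri F (1 : F)} {S : Multiset (F[X] × ℕ)} (h2 : (2 : F) ≠ 0)
    (hS : Labels T.g S) {f : F[X]} (hx : (f, 1) ∈ S) {R : F[X]}
    (hR : ∀ y, (aeval T.g f y = 0 ∨ aeval T.g (rd f) y = 0) → aeval T.g R y = 0) :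
    ∃ v, aeval T.g R v = 0 ∧ T.B v v ≠ 0 := by
  classical
  obtain ⟨hf, hfi, hf0, -⟩ := labels_mem (det_ne_zero T) hS _ hx
  dsimp only at hf hfi hf0
  by_contra hcon
  push Not at hcon
  have hxy : ∀ x y, aeval T.g f x = 0 → aeval T.g (rd f) y = 0 → T.B x y = 0 := fun x y hx' hy' => by
    have e1 := hcon x (hR x (Or.inl hx'))
    have e2 := hcon y (hR y (Or.inr hy'))
    have e3 := hcon (x + y) (by rw [map_add, hR x (Or.inl hx'), hR y (Or.inr hy'), add_zero])
    rw [map_add, map_add, LinearMap.add_apply, LinearMap.add_apply, e1, e2, T.sym y x, one_mul] at e3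
    have h4 : (2 : F) * T.B x y = 0 := by linear_combination e3
    exact (mul_eq_zero.1 h4).resolve_left h2
  set P := aeval T.g f with hP
  let Φ : LinearMap.ker (aeval T.g (f ^ 2)) →ₗ[F] LinearMap.ker P :=
    P.restrict fun x hx' => by
      rw [LinearMap.mem_ker] at hx' ⊢
      rwa [pow_two, map_mul, Module.End.mul_apply] at hx'
  have hΦ : Function.Surjective Φ := by
    rintro ⟨x, hx'⟩
    obtain ⟨w, hw⟩ := linearMap_mem_range_of_orth rfl hf hfi hf0 (fun y hy => hxy x y hx' hy)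
    refine ⟨⟨w, ?_⟩, Subtype.ext hw⟩
    rw [LinearMap.mem_ker, pow_two, map_mul, Module.End.mul_apply, hw]
    exact hx'
  have hker : finrank F (LinearMap.ker P) ≤ finrank F (LinearMap.ker Φ) := by
    refine LinearMap.finrank_le_finrank_of_injective
      (f := (Submodule.inclusion (show LinearMap.ker P ≤ LinearMap.ker (aeval T.g (f ^ 2)) from fun x hx' => by
        rw [LinearMap.mem_ker, pow_two, map_mul, Module.End.mul_apply, LinearMap.mem_ker.1 hx', map_zero])).codRestrict
        (LinearMap.ker Φ) fun x => Subtype.ext (LinearMap.mem_ker.1 x.2)) ?_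
    intro a b hab
    exact Submodule.inclusion_injective _ (congrArg Subtype.val hab)
  have hdim := LinearMap.finrank_range_add_finrank_ker Φ
  rw [LinearMap.range_eq_top.2 hΦ, finrank_top] at hdim
  have h1 := finrank_ker_of_labels hS hf hfi 1
  have h3 := finrank_ker_of_labels hS hf hfi 2
  rw [pow_one] at h1
  rw [← hP] at h1
  have hlt : (S.map fun y => if y.1 = f then min 2 y.2 * f.natDegree else 0).sum <
      (S.map fun y => 2 * if y.1 = f then min 1 y.2 * f.natDegree else 0).sum :=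
    Multiset.sum_lt_sum (fun y _ => by
      split_ifs
      · rw [← mul_assoc]; exact Nat.mul_le_mul_right _ (by omega)
      · simp) ⟨(f, 1), hx, by have := hfi.natDegree_pos; simp; omega⟩
  rw [Multiset.sum_map_mul_left, ← h1, ← h3] at hlt
  omega

/-- The witness. -/
theorem exists_witness (h2 : (2 : F) ≠ 0) {N : ℕ} (hι : Fintype.card ι = N)
    (hQ : (QuadraticMap.polarBilin Q).Nondegenerate) (g : isometryGroup F ⇑Q) {S : Multiset (F[X] × ℕ)}
    (hS : Labels (triN hι hQ g).g S) {f : F[X]} (hx : (f, 1) ∈ S) (hf1 : f ≠ X - C 1) (hfm1 : f ≠ X - C (-1)) :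
    ∃ h' : isometryGroup F ⇑Q, Commute g h' ∧ dick h' = 1 ∧ spin h' = -1 := by
  classical
  obtain ⟨hf, hfi, hf0, -⟩ := labels_mem (det_ne_zero _) hS _ hx
  dsimp only at hf hfi hf0
  obtain ⟨-, -, hm', hi', hf0', -⟩ := rd_facts hf hfi hf0 1
  have hff : rd (rd f) = f := cdual_cdual (RingHom.id F) (fun _ => rfl) hf hf0
  obtain ⟨R, hRdef⟩ : ∃ R : F[X], R = if rd f = f then f else f * rd f := ⟨_, rfl⟩
  have hRm : R.Monic := by rw [hRdef]; split_ifs; exacts [hf, hf.mul hm']
  have hfR : f ∣ R := by rw [hRdef]; split_ifs; exacts [dvd_refl f, dvd_mul_right f _]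
  have hfR' : rd f ∣ R := by
    rw [hRdef]; split_ifs with h
    · rw [h]
    · exact dvd_mul_left _ f
  have hR0 : R.coeff 0 ≠ 0 := by
    rw [hRdef]; split_ifs
    exacts [hf0, by rw [mul_coeff_zero]; exact mul_ne_zero hf0 hf0']
  have hRrd : rd R = R := by
    rw [hRdef]; split_ifs with h
    · exact h
    · rw [rd, cdual_mul, ← rd, ← rd, hff, mul_comm]
  have h : aeval (rinv R) R = 0 := by
    have h' := aeval_rinv_cdual (Q := R) hR0
    rwa [← rd, hRrd] at h'
  have hne1 : R ≠ 1 := fun h' => hfi.not_isUnit (isUnit_of_dvd_one (h' ▸ hfR))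
  have hdvdR : ∀ {P : F[X]}, f ∣ P → rd f ∣ P → R ∣ P := fun {P} h1 h3 => by
    rw [hRdef]; split_ifs with h'
    · exact h1
    · exact IsCoprime.mul_dvd (hfi.coprime_iff_not_dvd.2 fun hd => h' (eq_of_monic_of_associated hm' hf
        (hfi.associated_of_dvd hi' hd).symm)) h1 h3
  have hRdvd : R ∣ f * rd f := by rw [hRdef]; split_ifs; exacts [dvd_mul_right f _, dvd_refl _]
  -- units
  have hcop : ∀ {P : F[X]}, ¬ f ∣ P → ¬ rd f ∣ P → IsCoprime P R := fun {P} h1 h3 => by
    rw [hRdef]; split_ifs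
    · exact (hfi.coprime_iff_not_dvd.2 h1).symm
    · exact ((hfi.coprime_iff_not_dvd.2 h1).symm).mul_right (hi'.coprime_iff_not_dvd.2 h3).symm
  have hsym : ∀ a : AdjoinRoot R, dmap R R h a = a → a ≠ 0 → IsUnit a := by
    intro a ha hne
    obtain ⟨P, rfl⟩ := AdjoinRoot.mk_surjective a
    have flip : ∀ e : F[X], e.coeff 0 ≠ 0 → AdjoinRoot.mk R (P * e) = 0 → AdjoinRoot.mk R (P * rd e) = 0 := by
      intro e he h'
      obtain ⟨u, -, hu⟩ := dmap_mk_rd hR0 h he
      rw [map_mul, hu, ← ha, mul_left_comm, ← map_mul (dmap R R h), ← map_mul, h', map_zero, mul_zero]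
    refine isUnit_mk (hcop (fun hd => hne ?_) fun hd => hne ?_)
    · have h1 : AdjoinRoot.mk R (P * rd f) = 0 :=
        AdjoinRoot.mk_eq_zero.2 (hRdvd.trans (mul_dvd_mul_right hd _))
      have h3 := flip _ hf0' h1
      rw [hff] at h3
      refine AdjoinRoot.mk_eq_zero.2 ?_
      by_cases hc : rd f = f
      · exact hdvdR hd (by rw [hc]; exact hd)
      · refine hdvdR hd ?_
        refine ((hi'.prime.dvd_or_dvd (hfR'.trans (AdjoinRoot.mk_eq_zero.1 h3))).resolve_right fun hd' => hc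
          (eq_of_monic_of_associated hm' hf (hi'.associated_of_dvd hfi hd')))
    · have h1 : AdjoinRoot.mk R (P * f) = 0 :=
        AdjoinRoot.mk_eq_zero.2 (hRdvd.trans (by rw [mul_comm f]; exact mul_dvd_mul_right hd _))
      have h3 := flip _ hf0 h1
      refine AdjoinRoot.mk_eq_zero.2 ?_
      by_cases hc : rd f = f
      · exact hdvdR (by rw [← hc]; exact hd) hd
      · refine hdvdR ?_ hd
        refine ((hfi.prime.dvd_or_dvd (hfR.trans (AdjoinRoot.mk_eq_zero.1 h3))).resolve_right fun hd' => hc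
          (eq_of_monic_of_associated hm' hf (hfi.associated_of_dvd hi' hd').symm))
  have hs : IsUnit (AdjoinRoot.root R - rinv R) := by
    have hlin : ∀ δ : F, δ * δ = 1 → f ≠ X - C δ → ¬ f ∣ X - C δ ∧ ¬ rd f ∣ X - C δ := fun δ hδ hne =>
      ⟨fun hd => hne (eq_of_monic_of_associated hf (monic_X_sub_C δ) (hfi.associated_of_dvd (irreducible_X_sub_C δ) hd)),
        fun hd => hne (by
          rw [← hff, eq_of_monic_of_associated hm' (monic_X_sub_C δ) (hi'.associated_of_dvd (irreducible_X_sub_C δ) hd)]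
          exact (linear_facts hδ).2.2.2)⟩
    have hu : IsUnit (AdjoinRoot.mk R ((X - C 1) * (X - C (-1)))) := by
      rw [map_mul]
      exact (isUnit_mk (hcop (hlin 1 (one_mul 1) hf1).1 (hlin 1 (one_mul 1) hf1).2)).mul
        (isUnit_mk (hcop (hlin (-1) (by ring) hfm1).1 (hlin (-1) (by ring) hfm1).2))
    have e : AdjoinRoot.root R * (AdjoinRoot.root R - rinv R) = AdjoinRoot.mk R ((X - C 1) * (X - C (-1))) := by
      rw [mul_sub, root_mul_rinv hR0]
      simp only [map_mul, map_sub, AdjoinRoot.mk_X, map_one, map_neg, AdjoinRoot.mk_C]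
      ring
    exact isUnit_of_mul_isUnit_right (e ▸ hu)
  obtain ⟨v, hv, hvv⟩ := exists_vector h2 hS hx (R := R) fun y hy => by
    rcases hy with hy | hy
    · obtain ⟨c, hc⟩ := hfR
      rw [hc, mul_comm, map_mul, Module.End.mul_apply, hy, map_zero]
    · obtain ⟨c, hc⟩ := hfR'
      rw [hc, mul_comm, map_mul, Module.End.mul_apply, hy, map_zero]
  exact exists_witness_core h2 hι hQ g hRm hne1 hR0 h hsym hs v hv hvv

end Cfsg.Agent.Block.OddOrth
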