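import Cfsg.Agent.Lib.Block.OddOrth.Count
import Cfsg.Agent.Lib.Block.OddOrth.Split
import Cfsg.Agent.Lib.Classical.OrthClassNumber

/-!
The classes of an orthogonal group of odd dimension.
-/

set_option autoImplicit false
set_option linter.unusedSectionVars false

namespace Cfsg.Agent.Block.OddOrth

open Polynomial Module Matrix Cfsg Cfsg.Agent.Classical Cfsg.Agent.Classical.SLClasses Cfsg.Agent.Classical.UnitClasses
  Cfsg.Agent.UnitaryDetCentralizer
open Cfsg.Agent.Classical.IsometryClasses (rd linear_facts det_ne_zero labels_props exists_code_disc IsSign numSigns SameDisc)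
open Cfsg.Agent.Classical.SympClasses (center rd_eq_of_symm)
open Cfsg.Agent.Classical.OrthClasses (exists_element exists_sym)

universe u

variable {F : Type u} [Field F] [Fintype F] {ι : Type} [Fintype ι] [DecidableEq ι] {n : ℕ}
  {Q : QuadraticForm F (ι → F)}

attribute [local instance] Classical.propDecidable

/-- The classes, doubled, inject into signed divisors. -/
theorem exists_classes_inj (h : Fintype.card ι = 2 * n + 1) (h2 : (2 : F) ≠ 0)
    (hQ : (QuadraticMap.polarBilin Q).Nondegenerate) :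
    ∃ f : Bool × ConjClasses (isometryGroup F ⇑Q) → Lab F (2 * n + 1), Function.Injective f ∧
      ∀ p, (∀ g, ConjClasses.mk g = p.2 → ∀ x : F[X], x ≠ X - C 1 → x ≠ X - C (-1) → ∀ S, Labels (triN h hQ g).g S → (x, 1) ∉ S) →
        Rest (f p).1.1 := by
  classical
  have hεε : (1 : F) * 1 = 1 := one_mul 1
  choose g hg using fun C : ConjClasses (isometryGroup F ⇑Q) => ConjClasses.mk_surjective C
  choose S hS using fun C => exists_labels (triN h hQ (g C)).g
  choose χ hχ using fun S : Multiset (F[X] × ℕ) => exists_code_disc (F := F) h2 S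
  have hgood : ∀ C, GoodN F (2 * n + 1) (S C) := fun C => ⟨fun x hx => labels_mem (det_ne_zero _) (hS C) x hx, by
      rw [labels_sum (hS C)]; exact Module.finrank_fin_fun F,
    (labels_props hεε h2 _ _ (hS C)).1, (labels_props hεε h2 _ _ (hS C)).2⟩
  have hpos : ∀ C, 2 * 2 ^ (numSigns (1 : F) (S C) - 1) = 2 ^ numSigns (1 : F) (S C) := fun C => by
    obtain ⟨-, hsg, -⟩ := exists_encodeN (F := F) h2 n
    obtain ⟨x, hx, hxs⟩ := hsg ⟨(S C, ∅), hgood C, by simp⟩
    have h1 : 0 < numSigns (1 : F) (S C) := Finset.card_pos.2 ⟨x, Finset.mem_filter.2 ⟨Multiset.mem_toFinset.2 hx, hxs⟩⟩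
    rw [← pow_succ', Nat.sub_add_cancel h1]
  have hcard : ∀ T : Multiset (F[X] × ℕ),
      Fintype.card ((T.toFinset.filter (IsSign (1 : F))).powerset) = 2 ^ numSigns (1 : F) T := fun T => by
    rw [Fintype.card_coe, Finset.card_powerset]; rfl
  let A : ∀ (T : Multiset (F[X] × ℕ)), 2 * 2 ^ (numSigns (1 : F) T - 1) = 2 ^ numSigns (1 : F) T → Bool →
      Fin (2 ^ (numSigns (1 : F) T - 1)) → (T.toFinset.filter (IsSign (1 : F))).powerset := fun T hT b i =>
    (Fintype.equivFinOfCardEq (hcard T)).symm (Fin.cast hT (finProdFinEquiv (finTwoEquiv.symm b, i)))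
  have hA : ∀ T hT b i, ∀ x ∈ (A T hT b i).1, x ∈ T ∧ IsSign (1 : F) x := fun T hT b i x hx => by
    obtain ⟨h1, h3⟩ := Finset.mem_filter.1 (Finset.mem_powerset.1 (A T hT b i).2 hx)
    exact ⟨Multiset.mem_toFinset.1 h1, h3⟩
  let f : Bool × ConjClasses (isometryGroup F ⇑Q) → Lab F (2 * n + 1) := fun p =>
    ⟨(S p.2, (A _ (hpos p.2) p.1 (χ (S p.2) (triN h hQ (g p.2)))).1), hgood p.2, hA _ _ _ _⟩
  refine ⟨f, fun ⟨b, C⟩ ⟨b', C'⟩ hf => ?_, fun p hp x hx hx1 => ?_⟩
  · have hSS : S C = S C' := congrArg (fun z : Lab F (2 * n + 1) => z.1.1) hf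
    have key : ∀ (T T' : Multiset (F[X] × ℕ)) hT hT' (U U' : IsometryClasses.Tri F (1 : F)), T = T' →
        (A T hT b (χ T U)).1 = (A T' hT' b' (χ T' U')).1 → b = b' ∧ χ T U = χ T U' := by
      rintro T T' hT hT' U U' rfl he
      have h1 := (Fintype.equivFinOfCardEq (hcard T)).symm.injective (Subtype.ext he)
      obtain ⟨e1, e2⟩ := Prod.mk.inj (finProdFinEquiv.injective (Fin.cast_injective _ h1))
      exact ⟨finTwoEquiv.symm.injective e1, e2⟩
    obtain ⟨rfl, hc⟩ := key _ _ _ _ _ _ hSS (congrArg (fun z : Lab F (2 * n + 1) => z.1.2) hf)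
    have hd : SameDisc (triN h hQ (g C)) (triN h hQ (g C')) := ⟨_, rfl⟩
    have hconj := isConj_of_triN h h2 hQ (hχ (S C) _ _ (hS C) (hSS ▸ hS C') hd hc)
    rw [Prod.mk.injEq]
    exact ⟨rfl, by rw [← hg C, ← hg C']; exact ConjClasses.mk_eq_mk_iff_isConj.2 hconj⟩
  · by_contra hne
    push Not at hne
    exact hp (g p.2) (hg p.2) x.1 hne.1 hne.2 (S p.2) (hS p.2) (by rw [← hx1]; exact hx)

/-- Realisation of self-reciprocal polynomials times a linear factor. -/
theorem exists_odd (h : Fintype.card ι = 2 * n + 1) (h2 : (2 : F) ≠ 0)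
    (hQ : (QuadraticMap.polarBilin Q).Nondegenerate) {P : F[X]} (hP : P.Monic) (hd : P.natDegree = 2 * n + 1)
    (hs : rd P = P) :
    ∃ g : isometryGroup F ⇑Q, ((g : GL ι F) : Matrix ι ι F).charpoly = P := by
  classical
  have hl1 := linear_facts (F := F) (one_mul (1 : F))
  have hlm := linear_facts (F := F) (show (-1 : F) * -1 = 1 by ring)
  obtain ⟨P₁, hP₁, hP₁n⟩ := exists_eq_pow_rootMultiplicity_mul_and_not_dvd P hP.ne_zero 1
  have hP₁0 : P₁ ≠ 0 := fun h0 => hP.ne_zero (by rw [hP₁, h0, mul_zero])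
  obtain ⟨R, hR, hRn⟩ := exists_eq_pow_rootMultiplicity_mul_and_not_dvd P₁ hP₁0 (-1)
  obtain ⟨a, ha⟩ : ∃ a, P.rootMultiplicity 1 = a := ⟨_, rfl⟩
  obtain ⟨b, hb⟩ : ∃ b, P₁.rootMultiplicity (-1) = b := ⟨_, rfl⟩
  rw [ha] at hP₁
  rw [hb] at hR
  have hPR : P = (X - C 1) ^ a * (X - C (-1)) ^ b * R := by rw [mul_assoc, ← hR]; exact hP₁
  have hm : ((X - C (1 : F)) ^ a * (X - C (-1)) ^ b).Monic := ((monic_X_sub_C 1).pow a).mul ((monic_X_sub_C (-1)).pow b)
  have hRm : R.Monic := hm.of_mul_monic_left (hPR ▸ hP)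
  have hRs : rd R = R := by
    have e := hs
    rw [hPR, rd, cdual_mul, cdual_mul, cdual_pow, cdual_pow, ← rd, ← rd, ← rd, hl1.2.2.2, hlm.2.2.2] at e
    exact mul_left_cancel₀ hm.ne_zero e
  have hR1 : R.eval 1 ≠ 0 := fun h0 => hP₁n (by
    rw [hR]; exact (dvd_iff_isRoot.2 h0).mul_left _)
  have hRm1 : R.eval (-1) ≠ 0 := fun h0 => hRn (dvd_iff_isRoot.2 h0)
  obtain ⟨hR0, e, he⟩ := center h2 hRm hRs hR1 hRm1
  rw [← two_mul] at he
  obtain ⟨M, G, hMs, hMG, hGc, hMd⟩ := exists_sym h2 hRm he hR0 hRs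
  have hsum : 2 * e + (a + b) = 2 * n + 1 := by
    rw [← hd, hPR, hm.natDegree_mul hRm, ((monic_X_sub_C (1 : F)).pow a).natDegree_mul ((monic_X_sub_C (-1)).pow b),
      natDegree_pow, natDegree_pow, natDegree_X_sub_C, natDegree_X_sub_C, he]
    ring
  set D := gramDet (QuadraticMap.polarBilin Q) (Pi.basisFun F ι) with hD
  let w : Fin (a + b) → F := fun i => if (i : ℕ) = 0 then D * M.det else 1
  let δ : Fin (a + b) → F := fun i => if (i : ℕ) < a then 1 else -1
  have hMne : M.det ≠ 0 := by rw [hMd]; exact mul_ne_zero hR1 hRm1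
  have hw : ∀ i, w i ≠ 0 := fun i => by
    simp only [w]; split_ifs
    · exact mul_ne_zero (gramDet_ne_zero hQ _) hMne
    · exact one_ne_zero
  obtain ⟨g, hg⟩ := exists_element h2 hQ (M := Matrix.fromBlocks M 0 0 (Matrix.diagonal w))
    (G := Matrix.fromBlocks G 0 0 (Matrix.diagonal δ))
    (by
      rw [Matrix.det_fromBlocks_zero₁₂, Matrix.det_diagonal]
      exact mul_ne_zero hMne (Finset.prod_ne_zero_iff.2 fun i _ => hw i))
    (by rw [Matrix.fromBlocks_transpose, Matrix.transpose_zero, Matrix.transpose_zero, hMs, Matrix.diagonal_transpose])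
    (by
      rw [Matrix.fromBlocks_transpose, Matrix.fromBlocks_multiply, Matrix.fromBlocks_multiply]
      simp only [Matrix.transpose_zero, Matrix.mul_zero, Matrix.zero_mul, add_zero, zero_add, hMG,
        Matrix.diagonal_transpose, Matrix.diagonal_mul_diagonal]
      congr 2
      funext i
      simp only [δ]; split_ifs <;> ring)
    (by simp only [Fintype.card_sum, Fintype.card_fin, h]; omega)
    (by
      rw [Matrix.det_fromBlocks_zero₁₂, Matrix.det_diagonal]
      rw [Finset.prod_eq_single (⟨0, by omega⟩ : Fin (a + b)) (fun i _ hi => by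
        simp only [w]; rw [if_neg fun h1 => hi (Fin.ext h1)]) (by simp)]
      simp only [w, if_true]
      exact ⟨D * M.det, by ring⟩)
  refine ⟨g, hg.trans ?_⟩
  rw [Matrix.charpoly_fromBlocks_zero₁₂, hGc, Matrix.charpoly_diagonal, hPR, mul_comm R]
  congr 1
  rw [Fin.prod_univ_add]
  simp [δ]

/-- At least `2 q ^ n` classes. -/
theorem two_mul_pow_le (h : Fintype.card ι = 2 * n + 1) (h2 : (2 : F) ≠ 0)
    (hQ : (QuadraticMap.polarBilin Q).Nondegenerate) :
    2 * Fintype.card F ^ n ≤ Nat.card (ConjClasses (isometryGroup F ⇑Q)) := by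
  classical
  let c : (Fin n → F) → ℕ → F := fun m u => if h : 1 ≤ u ∧ u ≤ n then m ⟨u - 1, by omega⟩ else 1
  let P : (Fin n → F) → F[X] := fun m =>
    X ^ (2 * n) + ∑ u ∈ Finset.range (2 * n), monomial u (c m (min u (2 * n - u)))
  have hdeg : ∀ m, (∑ u ∈ Finset.range (2 * n), monomial u (c m (min u (2 * n - u)))).degree < (2 * n : ℕ) := fun m =>
    lt_of_le_of_lt (degree_sum_le _ _) ((Finset.sup_lt_iff (WithBot.bot_lt_coe _)).2 fun u hu =>
      (degree_monomial_le _ _).trans_lt (WithBot.coe_lt_coe.2 (Finset.mem_range.1 hu)))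
  have hmon : ∀ m, (P m).Monic := fun m => monic_X_pow_add (hdeg m)
  have hnd : ∀ m, (P m).natDegree = 2 * n := fun m => natDegree_eq_of_degree_eq_some (by
    simp only [P]
    rw [degree_add_eq_left_of_degree_lt (by rw [degree_X_pow]; exact hdeg m), degree_X_pow])
  have hco : ∀ m u, u ≤ 2 * n → (P m).coeff u = c m (min u (2 * n - u)) := fun m u hu => by
    simp only [P, coeff_add, finset_sum_coeff, coeff_monomial, Finset.sum_ite_eq', Finset.mem_range, coeff_X_pow]
    rcases Nat.lt_or_ge u (2 * n) with h | h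
    · rw [if_neg (by omega), if_pos h, zero_add]
    · rw [if_pos (by omega), if_neg (by omega), add_zero, show min u (2 * n - u) = 0 by omega]
      simp [c]
  have hrd : ∀ m, rd (P m) = P m := fun m => rd_eq_of_symm (by rw [hco m 0 (Nat.zero_le _)]; simp [c]) fun u hu => by
    rw [hnd] at hu ⊢
    rw [hco m u hu, hco m _ (Nat.sub_le _ _), show 2 * n - (2 * n - u) = u by omega, min_comm]
  let d : Bool → F := fun b => if b then 1 else -1
  have hdd : ∀ b, d b * d b = 1 := fun b => by cases b <;> simp [d]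
  have key : ∀ z : Bool × (Fin n → F), ∃ g : isometryGroup F ⇑Q,
      ((g : GL ι F) : Matrix ι ι F).charpoly = (X - C (d z.1)) * P z.2 := fun z => by
    refine exists_odd h h2 hQ ((monic_X_sub_C _).mul (hmon _)) ?_ ?_
    · rw [(monic_X_sub_C _).natDegree_mul (hmon _), natDegree_X_sub_C, hnd]; ring
    · rw [rd, cdual_mul, ← rd, ← rd, hrd, (linear_facts (hdd _)).2.2.2]
  choose g hg using key
  have hinj : Function.Injective fun z => ConjClasses.mk (g z) := fun z z' hzz => by
    obtain ⟨x, hx⟩ := isConj_iff.1 (ConjClasses.mk_eq_mk_iff_isConj.1 hzz)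
    have h1 := hg z'
    rw [← hx] at h1
    simp only [Subgroup.coe_mul, Subgroup.coe_inv, Units.val_mul] at h1
    rw [Matrix.coe_units_inv, Matrix.charpoly_units_conj, hg z] at h1
    have h0 : ∀ w : Bool × (Fin n → F), ((X - C (d w.1)) * P w.2).coeff 0 = -d w.1 := fun w => by
      rw [mul_coeff_zero, hco w.2 0 (Nat.zero_le _)]; simp [c]
    have e1 : d z.1 = d z'.1 := neg_injective (by rw [← h0 z, ← h0 z', h1])
    have e2 : z.1 = z'.1 := by
      revert e1
      cases z.1 <;> cases z'.1 <;> simp [d] <;> intro hc <;>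
        first | exact h2 (by linear_combination hc) | exact h2 (by linear_combination -hc)
    refine Prod.ext e2 (funext fun i => ?_)
    rw [e1] at h1
    have h3 := congrArg (fun R : F[X] => R.coeff ((i : ℕ) + 1)) (mul_left_cancel₀ (monic_X_sub_C (d z'.1)).ne_zero h1)
    simp only [hco _ _ (show (i : ℕ) + 1 ≤ 2 * n by omega),
      show min ((i : ℕ) + 1) (2 * n - ((i : ℕ) + 1)) = (i : ℕ) + 1 by omega, c,
      dif_pos (show 1 ≤ (i : ℕ) + 1 ∧ (i : ℕ) + 1 ≤ n by omega), Nat.add_sub_cancel] at h3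
    exact h3
  calc 2 * Fintype.card F ^ n = Nat.card (Bool × (Fin n → F)) := by simp
    _ ≤ _ := Nat.card_le_card_of_injective _ hinj

end Cfsg.Agent.Block.OddOrth
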