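import Mathlib
import Cfsg.Agent.Lib.Classical.OrthClassNumeric

/-!
The number of signed shapes without free coefficients in the parts of size one, for `q = 3`.
-/

set_option autoImplicit false

namespace Cfsg.Agent.Block.OddOrth

open Finset

/-- Flag choices with `t` linear parts. -/
def chooseFour (t : ℕ) : ℕ := [1, 4, 6, 4, 1].getD t 0

/-- The weight of `m` pairs in the parts of size `j + 1`. -/
def wR (j m : ℕ) : ℕ := if j = 0 then m + 1 else 3 ^ m

/-- The range of flags for size `j + 1`. -/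
def tR (j : ℕ) : ℕ := if j % 2 = 0 then 5 else 1

/-- Weighted shapes with parts of size at most `j` and total `N`. -/
def sT : ℕ → ℕ → ℕ
  | 0, N => if N = 0 then 1 else 0
  | j + 1, N => ∑ m ∈ range (N / (2 * (j + 1)) + 1), ∑ t ∈ range (tR j),
      if (j + 1) * (2 * m + t) ≤ N then chooseFour t * wR j m * sT j (N - (j + 1) * (2 * m + t)) else 0

/-- The same, tabulated. -/
def row (M : ℕ) : ℕ → List ℕ
  | 0 => (List.range (M + 1)).map fun N => if N = 0 then 1 else 0
  | j + 1 => (List.range (M + 1)).map fun N => ((List.range (N / (2 * (j + 1)) + 1)).map fun m =>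
      ((List.range (tR j)).map fun t =>
        if (j + 1) * (2 * m + t) ≤ N then
          chooseFour t * wR j m * (row M j).getD (N - (j + 1) * (2 * m + t)) 0 else 0).sum).sum

theorem row_getD (M : ℕ) : ∀ j N, N ≤ M → (row M j).getD N 0 = sT j N := by
  intro j
  induction j with
  | zero =>
    intro N hN
    simp [row, sT, List.getD_eq_getElem?_getD, Nat.lt_succ_of_le hN]
  | succ j ih =>
    intro N hN
    simp only [row, List.getD_eq_getElem?_getD, List.getElem?_map, List.getElem?_range (Nat.lt_succ_of_le hN),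
      Option.map_some, Option.getD_some, sT]
    rw [Finset.sum, Finset.range_val, Multiset.range, Multiset.map_coe, Multiset.sum_coe]
    refine congrArg List.sum (List.map_congr_left fun m _ => ?_)
    rw [Finset.sum, Finset.range_val, Multiset.range, Multiset.map_coe, Multiset.sum_coe]
    refine congrArg List.sum (List.map_congr_left fun t _ => ?_)
    split_ifs
    · rw [← ih _ (le_trans (Nat.sub_le _ _) hN), List.getD_eq_getElem?_getD]
    · rfl

theorem sT_le_succ (j N : ℕ) : sT j N ≤ sT (j + 1) N := by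
  conv_rhs => rw [sT]
  refine le_trans ?_ (single_le_sum (fun m _ => Nat.zero_le _) (mem_range.2 (Nat.succ_pos _) : 0 ∈ _))
  refine le_trans ?_ (single_le_sum (fun m _ => Nat.zero_le _)
    (mem_range.2 (by unfold tR; split_ifs <;> norm_num) : 0 ∈ range (tR j)))
  simp [chooseFour, wR]

theorem sT_mono {j k : ℕ} (h : j ≤ k) (N : ℕ) : sT j N ≤ sT k N := by
  induction h with
  | refl => exact le_rfl
  | step _ ih => exact ih.trans (sT_le_succ _ N)

theorem small (n : ℕ) (h2 : 2 ≤ n) (hn : n ≤ 15) : 50 * sT (2 * n + 1) (2 * n + 1) ≤ 491 * 3 ^ n := by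
  have key : ∀ n ∈ List.range 16, 2 ≤ n → 50 * (row 31 31).getD (2 * n + 1) 0 ≤ 491 * 3 ^ n := by decide +kernel
  refine le_trans (Nat.mul_le_mul_left 50 (sT_mono (k := 31) (by omega) _)) ?_
  rw [← row_getD 31 31 _ (by omega)]
  exact key n (List.mem_range.2 (by omega)) h2

/-- The evaluation point for the tail. -/
noncomputable def u0 : ℝ := 7 / 10

/-- The local factor at `u0`. -/
noncomputable def facR (i : ℕ) : ℝ :=
  (if i % 2 = 0 then (1 + u0 ^ (i + 1)) ^ 4 else 1) *
    (if i = 0 then 1 / (1 - u0 ^ 2) ^ 2 else 1 / (1 - 3 * u0 ^ (2 * (i + 1))))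

theorem u0_pos : (0 : ℝ) < u0 := by norm_num [u0]

theorem three_u_lt {i : ℕ} (hi : i ≠ 0) : 3 * u0 ^ (2 * (i + 1)) < 1 := by
  have h : u0 ^ (2 * (i + 1)) ≤ u0 ^ 4 := pow_le_pow_of_le_one u0_pos.le (by norm_num [u0]) (by omega)
  have : 3 * u0 ^ 4 < (1 : ℝ) := by norm_num [u0]
  linarith

theorem facR_nonneg (i : ℕ) : 0 ≤ facR i := by
  refine mul_nonneg ?_ ?_
  · split_ifs <;> positivity
  · split_ifs with hi
    · positivity
    · exact div_nonneg zero_le_one (by linarith [three_u_lt hi])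

theorem flags_sum (j : ℕ) :
    ∑ t ∈ range (tR j), (chooseFour t : ℝ) * u0 ^ ((j + 1) * t) = if j % 2 = 0 then (1 + u0 ^ (j + 1)) ^ 4 else 1 := by
  unfold tR
  split_ifs
  · simp [Finset.sum_range_succ, chooseFour, pow_mul]
    ring
  · simp [chooseFour]

theorem pairs_sum (j K : ℕ) :
    ∑ m ∈ range K, (wR j m : ℝ) * u0 ^ (2 * (j + 1) * m) ≤
      if j = 0 then 1 / (1 - u0 ^ 2) ^ 2 else 1 / (1 - 3 * u0 ^ (2 * (j + 1))) := by
  by_cases hj : j = 0
  · subst hj
    simp only [if_true, wR, Nat.cast_add, Nat.cast_one]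
    set y : ℝ := u0 ^ 2 with hy
    have hy0 : 0 ≤ y := by positivity
    have hy1 : y < 1 := by rw [hy]; norm_num [u0]
    have e : ∀ m, u0 ^ (2 * (0 + 1) * m) = y ^ m := fun m => by rw [hy, ← pow_mul]
    simp only [e]
    rw [le_div_iff₀ (by nlinarith [sub_pos.2 hy1])]
    have key : ∀ K : ℕ, (∑ m ∈ range K, ((m : ℝ) + 1) * y ^ m) * (1 - y) ^ 2 =
        1 - ((K : ℝ) + 1) * y ^ K + K * y ^ (K + 1) := by
      intro K
      induction K with
      | zero => simp
      | succ K ih => rw [Finset.sum_range_succ, add_mul, ih]; push_cast; ring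
    rw [key]
    have h1 : (0 : ℝ) ≤ y ^ K := by positivity
    have h3 : y ^ (K + 1) ≤ y ^ K := pow_le_pow_of_le_one hy0 hy1.le (by omega)
    nlinarith [mul_le_mul_of_nonneg_left h3 (Nat.cast_nonneg K : (0 : ℝ) ≤ K)]
  · simp only [if_neg hj, wR]
    set y : ℝ := 3 * u0 ^ (2 * (j + 1)) with hy
    have hy0 : 0 ≤ y := by have := u0_pos; positivity
    have hy1 : y < 1 := three_u_lt hj
    rw [le_div_iff₀ (by linarith), Finset.sum_congr rfl (fun m _ => show ((3 ^ m : ℕ) : ℝ) * u0 ^ (2 * (j + 1) * m) = y ^ m by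
      rw [hy, mul_pow, ← pow_mul]; push_cast; ring), geom_sum_mul_neg]
    linarith [pow_nonneg hy0 K]

theorem sT_le : ∀ j N, (sT j N : ℝ) * u0 ^ N ≤ ∏ i ∈ range j, facR i := by
  intro j
  induction j with
  | zero =>
    intro N
    rcases Nat.eq_zero_or_pos N with rfl | hN
    · simp [sT]
    · simp [sT, Nat.pos_iff_ne_zero.1 hN]
  | succ j ih =>
    intro N
    rw [sT, Nat.cast_sum, Finset.sum_mul, Finset.prod_range_succ]
    have hP : 0 ≤ ∏ i ∈ range j, facR i := prod_nonneg fun i _ => facR_nonneg i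
    have hterm : ∀ m t : ℕ, ((if (j + 1) * (2 * m + t) ≤ N then
        chooseFour t * wR j m * sT j (N - (j + 1) * (2 * m + t)) else 0 : ℕ) : ℝ) * u0 ^ N ≤
        ((chooseFour t : ℝ) * u0 ^ ((j + 1) * t)) * ((wR j m : ℝ) * u0 ^ (2 * (j + 1) * m)) * ∏ i ∈ range j, facR i := by
      intro m t
      split_ifs with h
      · obtain ⟨r, hr⟩ : ∃ r, N = (j + 1) * (2 * m + t) + r := ⟨_, (Nat.add_sub_cancel' h).symm⟩
        rw [show N - (j + 1) * (2 * m + t) = r by omega, hr, Nat.cast_mul, Nat.cast_mul, pow_add]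
        calc (chooseFour t : ℝ) * wR j m * sT j r * (u0 ^ ((j + 1) * (2 * m + t)) * u0 ^ r)
            = (chooseFour t : ℝ) * u0 ^ ((j + 1) * t) * ((wR j m : ℝ) * u0 ^ (2 * (j + 1) * m)) * (sT j r * u0 ^ r) := by
              rw [show (j + 1) * (2 * m + t) = 2 * (j + 1) * m + (j + 1) * t by ring, pow_add]; ring
          _ ≤ _ := mul_le_mul_of_nonneg_left (ih r) (by have := u0_pos; positivity)
      · rw [Nat.cast_zero, zero_mul]
        exact mul_nonneg (by have := u0_pos; positivity) hP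
    refine (sum_le_sum fun m _ => ?_).trans (le_of_eq_of_le (Finset.sum_mul _ _ _).symm ?_ )
      (b := ∑ m ∈ range (N / (2 * (j + 1)) + 1),
        (∑ t ∈ range (tR j), (chooseFour t : ℝ) * u0 ^ ((j + 1) * t)) * ((wR j m : ℝ) * u0 ^ (2 * (j + 1) * m)) *
          ∏ i ∈ range j, facR i)
    · rw [Nat.cast_sum, Finset.sum_mul, Finset.sum_mul, Finset.sum_mul]
      exact sum_le_sum fun t _ => hterm m t
    · rw [← Finset.mul_sum, flags_sum, mul_comm (∏ i ∈ range j, facR i)]
      refine mul_le_mul_of_nonneg_right ?_ hP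
      rw [facR]
      exact mul_le_mul_of_nonneg_left (pairs_sum j _) (by split_ifs <;> positivity [u0_pos])

theorem head_le : (∏ i ∈ range 16, facR i) * (100 / 95) ≤ 3000 := by
  norm_num [Finset.prod_range_succ, facR, u0]

theorem one_le_facR (i : ℕ) : 1 ≤ facR i := by
  have := u0_pos
  refine one_le_mul_of_one_le_of_one_le ?_ ?_
  · split_ifs
    · exact one_le_pow₀ (le_add_of_nonneg_right (by positivity))
    · exact le_rfl
  · split_ifs with hi
    · rw [one_le_div (by norm_num [u0])]; norm_num [u0]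
    · rw [one_le_div (by linarith [three_u_lt hi])]
      linarith [pow_pos this (2 * (i + 1))]

theorem prod_facR_le (K : ℕ) : ∏ i ∈ range K, facR i ≤ 3000 := by
  have hb : ∀ i, 16 ≤ i → facR i ≤ 1 + 6 * u0 ^ (i + 1) := fun i hi => by
    set x : ℝ := u0 ^ (i + 1) with hx
    have hx0 : 0 ≤ x := by have := u0_pos; positivity
    have hx1 : x ≤ 1 / 400 := by
      calc x ≤ u0 ^ 17 := pow_le_pow_of_le_one u0_pos.le (by norm_num [u0]) (by omega)
        _ ≤ _ := by norm_num [u0]
    have e : u0 ^ (2 * (i + 1)) = x * x := by rw [hx, two_mul, pow_add]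
    have h1 : (if i % 2 = 0 then (1 + u0 ^ (i + 1)) ^ 4 else 1) ≤ 1 + 5 * x := by
      split_ifs
      · nlinarith [mul_le_mul_of_nonneg_left hx1 hx0, pow_nonneg hx0 3, sq_nonneg x,
          mul_le_mul_of_nonneg_left hx1 (sq_nonneg x)]
      · linarith
    rw [facR, if_neg (show i ≠ 0 by omega), e]
    refine (mul_le_mul_of_nonneg_right h1 (div_nonneg zero_le_one (by nlinarith))).trans ?_
    rw [mul_one_div, div_le_iff₀ (by nlinarith)]
    nlinarith
  have htail : ∏ i ∈ Ico 16 (16 + K), facR i ≤ 100 / 95 := by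
    refine (prod_le_prod (fun i _ => facR_nonneg i) fun i hi => hb i (mem_Ico.1 hi).1).trans ?_
    have hs : ∑ i ∈ Ico 16 (16 + K), 6 * u0 ^ (i + 1) ≤ 5 / 100 := by
      rw [sum_Ico_eq_sum_range, Nat.add_sub_cancel_left]
      simp only [show ∀ i, u0 ^ (16 + i + 1) = u0 ^ 17 * u0 ^ i from fun i => by rw [← pow_add]; ring_nf, ← mul_assoc]
      rw [← Finset.mul_sum]
      have hg : ∑ i ∈ range K, u0 ^ i ≤ 1 / (1 - u0) := by
        rw [le_div_iff₀ (by norm_num [u0]), geom_sum_mul_neg]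
        linarith [pow_nonneg u0_pos.le K]
      refine (mul_le_mul_of_nonneg_left hg (by have := u0_pos; positivity)).trans ?_
      norm_num [u0]
    refine (Cfsg.Agent.Classical.OrthClasses.prod_one_add_le _ _ (fun i _ => by have := u0_pos; positivity)
      (by linarith)).trans ?_
    rw [div_le_div_iff₀ (by linarith) (by norm_num)]
    linarith
  calc ∏ i ∈ range K, facR i ≤ ∏ i ∈ range (16 + K), facR i :=
        prod_le_prod_of_subset_of_one_le (range_mono (by omega)) (fun i _ => facR_nonneg i) fun i _ _ => one_le_facR i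
    _ = (∏ i ∈ range 16, facR i) * ∏ i ∈ Ico 16 (16 + K), facR i := (prod_range_mul_prod_Ico _ (by omega)).symm
    _ ≤ (∏ i ∈ range 16, facR i) * (100 / 95) := mul_le_mul_of_nonneg_left htail (prod_nonneg fun i _ => facR_nonneg i)
    _ ≤ _ := head_le

theorem large (n : ℕ) (hn : 16 ≤ n) : 50 * sT (2 * n + 1) (2 * n + 1) ≤ 491 * 3 ^ n := by
  have h := (sT_le (2 * n + 1) (2 * n + 1)).trans (prod_facR_le _)
  set z : ℝ := 3 * u0 ^ 2 with hz
  have hz1 : z ^ 16 ≤ z ^ n := pow_le_pow_right₀ (by rw [hz]; norm_num [u0]) hn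
  have hz2 : (3000 : ℝ) * 50 ≤ 491 * u0 * z ^ 16 := by rw [hz]; norm_num [u0]
  have hu : 0 < u0 ^ (2 * n + 1) := pow_pos u0_pos _
  have h3 : ((50 * sT (2 * n + 1) (2 * n + 1) : ℕ) : ℝ) * u0 ^ (2 * n + 1) ≤
      ((491 * 3 ^ n : ℕ) : ℝ) * u0 ^ (2 * n + 1) := by
    push_cast
    calc (50 : ℝ) * sT (2 * n + 1) (2 * n + 1) * u0 ^ (2 * n + 1) ≤ 491 * u0 * z ^ 16 := by linarith
      _ ≤ 491 * u0 * z ^ n := mul_le_mul_of_nonneg_left hz1 (by have := u0_pos; positivity)
      _ = _ := by rw [hz, mul_pow, ← pow_mul, pow_succ]; ring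
  exact_mod_cast le_of_mul_le_mul_right h3 hu

theorem sT_bound (n : ℕ) (hn : 2 ≤ n) : 50 * sT (2 * n + 1) (2 * n + 1) ≤ 491 * 3 ^ n := by
  rcases Nat.lt_or_ge n 16 with h | h
  · exact small n hn (by omega)
  · exact large n h

end Cfsg.Agent.Block.OddOrth
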