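import Cfsg.Agent.Lib.Block.OddOrth.Encode
import Cfsg.Agent.Lib.Block.OddOrth.Numeric

/-!
Bounds for the numbers of signed elementary divisors of odd total.
-/

set_option autoImplicit false

namespace Cfsg.Agent.Block.OddOrth

open Finset
open Cfsg.Agent.Classical.SympClasses (tot)
open Cfsg.Agent.Classical.OrthClasses (x0 x0_pos x0_lt lin geo sum_geo_le sum_wgtO lin_nonneg one_le_geo prod_plus flags)

universe u

variable {F : Type u} [Field F] [Fintype F]

attribute [local instance] Classical.propDecidable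

theorem flagsSum (f : ℕ → ℝ) :
    ∑ e : Bool × Bool × Bool × Bool, f (tot e) = ∑ t ∈ range 5, (chooseFour t : ℝ) * f t := by
  simp [Fintype.sum_prod_type, Finset.sum_range_succ, chooseFour, tot]
  ring

/-- The exact count of restricted shapes is the recursion. -/
theorem sum_cfg_le (M : ℕ) : ∀ (j N : ℕ),
    ∑ c : Fin j → Fin (M + 1) × (Bool × Bool × Bool × Bool),
      (if (∀ i : Fin j, ¬ Even (i : ℕ) → (c i).2 = (false, false, false, false)) ∧
          ∑ i : Fin j, ((i : ℕ) + 1) * (2 * ((c i).1 : ℕ) + tot (c i).2) = N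
        then ((∏ i : Fin j, wR i ((c i).1 : ℕ) : ℕ) : ℝ) else 0) ≤ (sT j N : ℝ) := by
  intro j
  induction j with
  | zero =>
    intro N
    rcases Nat.eq_zero_or_pos N with rfl | hN
    · simp [sT]
    · simp [sT, Nat.pos_iff_ne_zero.1 hN, (Nat.pos_iff_ne_zero.1 hN).symm]
  | succ j ih =>
    intro N
    let w : Fin (M + 1) × (Bool × Bool × Bool × Bool) → ℕ := fun z => (j + 1) * (2 * (z.1 : ℕ) + tot z.2)
    let pr : Fin (M + 1) × (Bool × Bool × Bool × Bool) → Prop := fun z => ¬ Even j → z.2 = (false, false, false, false)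
    rw [← (Fin.snocEquiv fun _ => Fin (M + 1) × (Bool × Bool × Bool × Bool)).sum_comp, Fintype.sum_prod_type]
    calc _ ≤ ∑ z : Fin (M + 1) × (Bool × Bool × Bool × Bool), (if pr z ∧ w z ≤ N then
            (wR j (z.1 : ℕ) : ℝ) * (sT j (N - w z) : ℝ) else 0) := by
          refine sum_le_sum fun z _ => ?_
          by_cases hz : pr z ∧ w z ≤ N
          · rw [if_pos hz]
            refine le_trans (le_of_eq ?_) (mul_le_mul_of_nonneg_left (ih (N - w z)) (Nat.cast_nonneg _))
            rw [mul_sum]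
            refine sum_congr rfl fun c _ => ?_
            have hiff : ((∀ i : Fin (j + 1), ¬ Even (i : ℕ) →
                ((Fin.snocEquiv fun _ => Fin (M + 1) × (Bool × Bool × Bool × Bool)) (z, c) i).2 = (false, false, false, false)) ∧
                ∑ i : Fin (j + 1), ((i : ℕ) + 1) *
                  (2 * (((Fin.snocEquiv fun _ => Fin (M + 1) × (Bool × Bool × Bool × Bool)) (z, c) i).1 : ℕ) +
                    tot ((Fin.snocEquiv fun _ => Fin (M + 1) × (Bool × Bool × Bool × Bool)) (z, c) i).2) = N) ↔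
                ((∀ i : Fin j, ¬ Even (i : ℕ) → (c i).2 = (false, false, false, false)) ∧
                ∑ i : Fin j, ((i : ℕ) + 1) * (2 * ((c i).1 : ℕ) + tot (c i).2) = N - w z) := by
              simp only [Fin.snocEquiv_apply, Fin.forall_fin_succ', Fin.sum_univ_castSucc, Fin.snoc_castSucc,
                Fin.snoc_last, Fin.val_castSucc, Fin.val_last]
              have hw := hz.2
              simp only [w] at hw ⊢
              constructor
              · rintro ⟨⟨h1, -⟩, h3⟩; exact ⟨h1, by omega⟩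
              · rintro ⟨h1, h3⟩; exact ⟨⟨h1, hz.1⟩, by omega⟩
            by_cases hc : (∀ i : Fin j, ¬ Even (i : ℕ) → (c i).2 = (false, false, false, false)) ∧
                ∑ i : Fin j, ((i : ℕ) + 1) * (2 * ((c i).1 : ℕ) + tot (c i).2) = N - w z
            · rw [if_pos (hiff.2 hc), if_pos hc]
              simp only [Fin.snocEquiv_apply, Fin.prod_univ_castSucc, Fin.snoc_castSucc, Fin.snoc_last, Fin.val_castSucc,
                Fin.val_last, Nat.cast_mul]
              ring
            · rw [if_neg (hc ∘ hiff.1), if_neg hc, mul_zero]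
          · rw [if_neg hz]
            refine le_of_eq (sum_eq_zero fun c _ => if_neg fun h => hz ?_)
            obtain ⟨h1, h3⟩ := h
            simp only [Fin.snocEquiv_apply, Fin.forall_fin_succ', Fin.sum_univ_castSucc, Fin.snoc_castSucc,
              Fin.snoc_last, Fin.val_castSucc, Fin.val_last] at h1 h3
            exact ⟨h1.2, by simp only [w]; omega⟩
      _ ≤ _ := ?_
    rw [Fintype.sum_prod_type, sT, Nat.cast_sum]
    let g : ℕ → ℝ := fun m => ((∑ t ∈ range (tR j), if (j + 1) * (2 * m + t) ≤ N then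
      chooseFour t * wR j m * sT j (N - (j + 1) * (2 * m + t)) else 0 : ℕ) : ℝ)
    have hg0 : ∀ m, 0 ≤ g m := fun m => Nat.cast_nonneg _
    calc _ = ∑ m : Fin (M + 1), g (m : ℕ) := by
          refine sum_congr rfl fun m _ => ?_
          simp only [g, Nat.cast_sum, tR]
          by_cases hj : Even j
          · rw [if_pos (Nat.even_iff.1 hj)]
            simp only [pr, hj, not_true_eq_false, false_imp_iff, true_and, w]
            rw [flagsSum fun t => if (j + 1) * (2 * (m : ℕ) + t) ≤ N then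
              (wR j (m : ℕ) : ℝ) * (sT j (N - (j + 1) * (2 * (m : ℕ) + t)) : ℝ) else 0]
            refine sum_congr rfl fun t _ => ?_
            split_ifs <;> push_cast <;> ring
          · rw [if_neg (fun h => hj (Nat.even_iff.2 h)), Finset.sum_range_one]
            simp only [pr, hj, not_false_eq_true, true_implies, w]
            rw [Finset.sum_eq_single (false, false, false, false) (fun e _ he => if_neg fun h => he h.1) (by simp)]
            simp [tot, chooseFour]
      _ = ∑ m ∈ range (M + 1), g m := Fin.sum_univ_eq_sum_range g (M + 1)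
      _ ≤ _ := by
          refine (Finset.sum_le_sum_of_subset_of_nonneg (s := range (M + 1))
            (t := range (M + 1) ∪ range (N / (2 * (j + 1)) + 1)) subset_union_left fun m _ _ => hg0 m).trans
            (le_of_eq (Finset.sum_subset subset_union_right fun m _ hm => ?_).symm)
          show g m = 0
          simp only [g, Nat.cast_eq_zero]
          refine Finset.sum_eq_zero fun t _ => if_neg fun h => hm (mem_range.2 ?_)
          have h1 : 2 * (j + 1) * m ≤ N := le_trans (by rw [mul_comm 2, mul_assoc]; exact Nat.mul_le_mul_left _ (by omega)) h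
          rw [Nat.lt_succ_iff, Nat.le_div_iff_mul_le (by omega), mul_comm]
          exact h1

variable (h2 : (2 : F) ≠ 0)
include h2

theorem three_le_card : 3 ≤ Fintype.card F := by
  have h1 : 1 < Fintype.card F := Fintype.one_lt_card
  by_contra h
  have h3 : Fintype.card F = 2 := by omega
  exact h2 (by
    have := Nat.cast_card_eq_zero F
    rw [h3] at this
    exact_mod_cast this)

/-- The signed divisors without free coefficients in size one. -/
theorem card_rest_le {n : ℕ} (hn : 2 ≤ n) :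
    Finite {p : Lab F (2 * n + 1) // Rest p.1.1} ∧
      50 * Nat.card {p : Lab F (2 * n + 1) // Rest p.1.1} ≤ 491 * Fintype.card F ^ n := by
  obtain ⟨-, -, ψ, hψ⟩ := exists_encodeN (F := F) h2 n
  refine ⟨Finite.of_injective ψ hψ, ?_⟩
  set q := Fintype.card F with hq
  have hq3 : 3 ≤ q := three_le_card h2
  let V : Finset (Cf (2 * n + 1)) := univ.filter fun c => Vd _ c
  let A : Cf (2 * n + 1) → ℕ := fun c => ∑ i : {i : Fin (2 * n + 1) // i ≠ 0}, ((c i.1).1 : ℕ)
  have h1 : Nat.card {p : Lab F (2 * n + 1) // Rest p.1.1} ≤ ∑ c ∈ V, (((c 0).1 : ℕ) + 1) * q ^ A c := by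
    refine (Nat.card_le_card_of_injective ψ hψ).trans_eq ?_
    rw [Nat.card_sigma, Finset.sum_subtype (f := fun c : Cf (2 * n + 1) => (((c 0).1 : ℕ) + 1) * q ^ A c) V
      (p := fun c => Vd (2 * n + 1) c) (fun c => by simp [V])]
    refine sum_congr rfl fun c _ => ?_
    simp [Nat.card_prod, Nat.card_pi, Finset.prod_pow_eq_pow_sum, hq, A]
  have hA : ∀ c ∈ V, A c ≤ n := fun c hc => by
    have h := (mem_filter.1 hc).2.2
    have h' : ∑ i : Fin (2 * n + 1), 2 * ((c i).1 : ℕ) ≤ 2 * n + 1 := le_of_le_of_eq (sum_le_sum fun i _ =>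
      le_trans (Nat.le_add_right (2 * ((c i).1 : ℕ)) (tot (c i).2))
        (Nat.le_mul_of_pos_left _ (show 0 < (i : ℕ) + 1 by omega))) h
    rw [← mul_sum] at h'
    have h'' : A c ≤ ∑ i : Fin (2 * n + 1), ((c i).1 : ℕ) := by
      simp only [A]
      rw [← Finset.sum_subtype (univ.filter fun i => i ≠ 0) (fun i => by simp) fun i : Fin (2 * n + 1) => ((c i).1 : ℕ)]
      exact sum_le_sum_of_subset (filter_subset _ _)
    omega
  have hW : ∀ c : Cf (2 * n + 1), ∏ i : Fin (2 * n + 1), wR i ((c i).1 : ℕ) = (((c 0).1 : ℕ) + 1) * 3 ^ A c := fun c => by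
    rw [← Finset.mul_prod_erase _ _ (mem_univ (0 : Fin (2 * n + 1)))]
    congr 1
    simp only [A]
    rw [← Finset.prod_pow_eq_pow_sum, ← Finset.prod_subtype (univ.erase (0 : Fin (2 * n + 1))) (fun i => by simp)
      fun i : Fin (2 * n + 1) => 3 ^ ((c i).1 : ℕ)]
    refine prod_congr rfl fun i hi => if_neg fun h => (mem_erase.1 hi).1 (Fin.ext h)
  have h3 : ∑ c ∈ V, (((c 0).1 : ℕ) + 1) * 3 ^ A c ≤ sT (2 * n + 1) (2 * n + 1) := by
    have h := sum_cfg_le (2 * n + 1) (2 * n + 1) (2 * n + 1)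
    rw [← Finset.sum_filter] at h
    have e : ((∑ c ∈ V, (((c 0).1 : ℕ) + 1) * 3 ^ A c : ℕ) : ℝ) =
        ∑ c ∈ V, ((∏ i : Fin (2 * n + 1), wR i ((c i).1 : ℕ) : ℕ) : ℝ) := by
      rw [Nat.cast_sum]; exact sum_congr rfl fun c _ => by rw [hW]
    have hle := le_of_eq_of_le e (le_of_eq_of_le (sum_congr (Finset.ext fun c => by simp [V, Vd]) fun _ _ => rfl) h)
    exact_mod_cast hle
  have h4 : (∑ c ∈ V, (((c 0).1 : ℕ) + 1) * q ^ A c) * 3 ^ n ≤ q ^ n * ∑ c ∈ V, (((c 0).1 : ℕ) + 1) * 3 ^ A c := by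
    rw [Finset.sum_mul, Finset.mul_sum]
    refine sum_le_sum fun c hc => ?_
    obtain ⟨d, hd⟩ : ∃ d, n = A c + d := ⟨n - A c, by have := hA c hc; omega⟩
    rw [show (3 : ℕ) ^ n = 3 ^ A c * 3 ^ d by rw [← pow_add, ← hd], show q ^ n = q ^ A c * q ^ d by rw [← pow_add, ← hd]]
    have := Nat.pow_le_pow_left hq3 d
    calc (((c 0).1 : ℕ) + 1) * q ^ A c * (3 ^ A c * 3 ^ d) ≤ (((c 0).1 : ℕ) + 1) * q ^ A c * (3 ^ A c * q ^ d) :=
          Nat.mul_le_mul_left _ (Nat.mul_le_mul_left _ this)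
      _ = _ := by ring
  refine Nat.le_of_mul_le_mul_right ?_ (pow_pos (show 0 < 3 by norm_num) n)
  calc 50 * Nat.card {p : Lab F (2 * n + 1) // Rest p.1.1} * 3 ^ n
      ≤ 50 * ((∑ c ∈ V, (((c 0).1 : ℕ) + 1) * q ^ A c) * 3 ^ n) := by rw [mul_assoc]; exact Nat.mul_le_mul_left _ (Nat.mul_le_mul_right _ h1)
    _ ≤ 50 * (q ^ n * sT (2 * n + 1) (2 * n + 1)) := Nat.mul_le_mul_left _ (h4.trans (Nat.mul_le_mul_left _ h3))
    _ = q ^ n * (50 * sT (2 * n + 1) (2 * n + 1)) := by ring
    _ ≤ q ^ n * (491 * 3 ^ n) := Nat.mul_le_mul_left _ (sT_bound n hn)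
    _ = _ := by ring

/-- The weight of one size at `x0`. -/
noncomputable def gW (N : ℕ) (s : ℝ) (i : ℕ) (z : Fin (N + 1) × (Bool × Bool × Bool × Bool)) : ℝ :=
  (if i = 0 ∧ (z.1 : ℕ) ≠ 0 then 0 else Cfsg.Agent.Classical.OrthClasses.wgtO x0 i ((z.1 : ℕ), z.2)) *
    s ^ ((i + 1) * flags z.2)

omit h2 in
omit [Field F] [Fintype F] in
theorem sum_gW {N i : ℕ} {s : ℝ} (hs : s * s = 1) :
    0 ≤ ∑ z, gW N s i z ∧ ∑ z, gW N s i z ≤ lin x0 s i * geo x0 i := by
  have hterm : ∀ m : Fin (N + 1), ∑ e : Bool × Bool × Bool × Bool, gW N s i (m, e) =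
      (if i = 0 then (if (m : ℕ) = 0 then 1 else 0) else x0 ^ (2 * (i * (m : ℕ)))) * lin x0 s i := by
    intro m
    simp only [gW]
    by_cases hi : i = 0
    · by_cases hm : (m : ℕ) = 0
      · simp only [hi, hm, ne_eq, not_true_eq_false, and_false, if_false, if_true]
        rw [sum_wgtO _ _ hs, mul_zero, mul_zero, pow_zero]
      · simp [hi, hm]
    · simp only [hi, false_and, if_false]
      rw [sum_wgtO _ _ hs]
  rw [Fintype.sum_prod_type, sum_congr rfl fun m _ => hterm m, ← sum_mul]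
  refine ⟨mul_nonneg (sum_nonneg fun m _ => ?_) (lin_nonneg _ _), ?_⟩
  · have := x0_pos
    split_ifs <;> positivity
  · rw [mul_comm]
    exact mul_le_mul_of_nonneg_left (sum_geo_le x0_pos.le x0_lt i (N + 1)) (lin_nonneg _ _)

theorem card_lab_le (n : ℕ) :
    Finite (Lab F (2 * n + 1)) ∧ (Nat.card (Lab F (2 * n + 1)) : ℝ) ≤ 2893 / 100 * (Fintype.card F : ℝ) ^ n := by
  have henc := (exists_encodeN (F := F) h2 n).1
  set N := 2 * n + 1 with hN
  obtain ⟨ψ, hψ⟩ := henc
  refine ⟨Finite.of_injective ψ hψ, ?_⟩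
  set q := Fintype.card F with hq
  have hq3 : 3 ≤ q := three_le_card h2
  have hq0 : (0 : ℝ) < q := by positivity
  set x : ℝ := Real.sqrt (q : ℝ)⁻¹ with hx
  have hx0 : 0 ≤ x := Real.sqrt_nonneg _
  have hxx : x ^ 2 = (q : ℝ)⁻¹ := Real.sq_sqrt (by positivity)
  have hx1 : x ≤ x0 := by
    refine (pow_le_pow_iff_left₀ hx0 x0_pos.le two_ne_zero).1 ?_
    rw [hxx]
    refine le_trans (inv_anti₀ (by norm_num : (0 : ℝ) < 3) (by exact_mod_cast hq3)) ?_
    norm_num [x0]
  let V : Finset (Cf N) := univ.filter fun c => Vd _ c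
  let clr : Cf N → Cf N := fun c i => if (i : ℕ) = 0 then (0, (c i).2) else c i
  let G : ℝ → Cf N → ℝ := fun s c => ∏ i : Fin N, gW N s (i : ℕ) (c i)
  let D : Cf N → ℕ := fun c => ∑ i : Fin N, ((i : ℕ) + 1) * flags (c i).2
  have hGs : ∀ s c, G s c = G 1 c * s ^ D c := fun s c => by
    simp only [G, D, gW, one_pow, mul_one, prod_mul_distrib, prod_pow_eq_pow_sum]
  have hG0 : ∀ c, 0 ≤ G 1 c := fun c => prod_nonneg fun i _ => by
    refine mul_nonneg ?_ (by simp)
    split_ifs
    · exact le_rfl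
    · exact Cfsg.Agent.Classical.OrthClasses.wgtO_nonneg x0_pos.le _ _
  have hclr : Set.InjOn clr (V : Set (Cf N)) := by
    intro c hc c' hc' hcc
    have hne : ∀ i : Fin N, (i : ℕ) ≠ 0 → c i = c' i := fun i hi => by
      have h := congrFun hcc i
      simpa only [clr, if_neg hi] using h
    funext i
    by_cases hi : (i : ℕ) = 0
    swap
    · exact hne i hi
    have he : (c i).2 = (c' i).2 := by
      have h := congrFun hcc i
      simp only [clr, if_pos hi] at h
      exact (Prod.ext_iff.1 h).2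
    have h1 := (mem_filter.1 (Finset.mem_coe.1 hc)).2.2
    have h3 := (mem_filter.1 (Finset.mem_coe.1 hc')).2.2
    rw [← Finset.add_sum_erase _ _ (mem_univ i)] at h1 h3
    rw [sum_congr rfl (fun j hj => by
      rw [hne j fun h => (mem_erase.1 hj).1 (Fin.ext (h.trans hi.symm))])] at h1
    refine Prod.ext (Fin.ext ?_) he
    simp only [hi, he] at h1 h3
    omega
  have hterm : ∀ c ∈ V, (q : ℝ) ^ (∑ i : Fin N, ((c i).1 : ℕ)) ≤ (q : ℝ) ^ n / x0 * G 1 (clr c) ∧ Odd (D (clr c)) := by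
    intro c hc
    obtain ⟨hev, hsum⟩ := (mem_filter.1 hc).2
    have hflags : ∀ i, (clr c i).2 = (c i).2 := fun i => by
      by_cases hi : (i : ℕ) = 0
      · simp only [clr, if_pos hi]
      · simp only [clr, if_neg hi]
    set a := ∑ i : Fin N, ((c i).1 : ℕ)
    set b := ∑ i : Fin N, (2 * ((i : ℕ) * ((c i).1 : ℕ)) + ((i : ℕ) + 1) * flags (c i).2) with hb
    have hN' : 2 * a + b = N := by
      rw [hb, Finset.mul_sum, ← Finset.sum_add_distrib]
      conv_rhs => rw [← hsum]
      refine sum_congr rfl fun i _ => ?_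
      rw [show tot (c i).2 = flags (c i).2 from rfl]
      ring
    have hexp : G 1 (clr c) = x0 ^ b := by
      rw [hb, ← Finset.prod_pow_eq_pow_sum]
      refine prod_congr rfl fun i _ => ?_
      simp only [gW, one_pow, mul_one, Cfsg.Agent.Classical.OrthClasses.wgtO]
      by_cases hi : (i : ℕ) = 0
      · simp only [clr, if_pos hi]
        simp [hi]
      · simp only [clr, if_neg hi, hi, false_and, if_false]
        rw [if_neg fun h => h.2 (hev i h.1)]
    refine ⟨?_, ?_⟩
    · obtain ⟨d, hd⟩ : ∃ d, n = a + d := ⟨n - a, by omega⟩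
      rw [hexp, show b = 2 * d + 1 by omega, pow_succ, div_mul_eq_mul_div, le_div_iff₀ x0_pos, ← mul_assoc]
      refine mul_le_mul_of_nonneg_right ?_ x0_pos.le
      calc (q : ℝ) ^ a = (q : ℝ) ^ n * x ^ (2 * d) := by
            rw [pow_mul, hxx, hd, pow_add, inv_pow, mul_assoc, mul_inv_cancel₀ (pow_ne_zero _ hq0.ne'), mul_one]
        _ ≤ _ := mul_le_mul_of_nonneg_left (pow_le_pow_left₀ hx0 hx1 _) (by positivity)
    · simp only [D, hflags]
      rw [Nat.odd_iff]
      have h : b = 2 * (∑ i : Fin N, (i : ℕ) * ((c i).1 : ℕ)) + ∑ i : Fin N, ((i : ℕ) + 1) * flags (c i).2 := by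
        rw [hb, sum_add_distrib, mul_sum]
      omega
  have hsumG : ∀ s : ℝ, s * s = 1 →
      0 ≤ ∑ c, G s c ∧ ∑ c, G s c ≤ ∏ i ∈ range N, lin x0 s i * geo x0 i := fun s hs => by
    have e : ∑ c, G s c = ∏ i : Fin N, ∑ z, gW N s (i : ℕ) z := by
      rw [Fintype.prod_sum]
    rw [e, ← Fin.prod_univ_eq_prod_range (fun i => lin x0 s i * geo x0 i)]
    exact ⟨prod_nonneg fun i _ => (sum_gW hs).1, prod_le_prod (fun i _ => (sum_gW hs).1) fun i _ => (sum_gW hs).2⟩
  have hodd : ∑ c ∈ univ.filter (fun c => Odd (D c)), G 1 c ≤ 334 / 10 / 2 := by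
    have e : ∀ c, (if Odd (D c) then 2 * G 1 c else 0) = G 1 c - G (-1) c := fun c => by
      rw [hGs (-1) c]
      split_ifs with h
      · rw [h.neg_one_pow]; ring
      · rw [(Nat.not_odd_iff_even.1 h).neg_one_pow]; ring
    have h1 : 2 * ∑ c ∈ univ.filter (fun c => Odd (D c)), G 1 c = ∑ c, G 1 c - ∑ c, G (-1) c := by
      rw [mul_sum, sum_filter, sum_congr rfl fun c _ => e c, sum_sub_distrib]
    obtain ⟨-, h3⟩ := hsumG 1 (one_mul 1)
    obtain ⟨h4, -⟩ := hsumG (-1) (by norm_num)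
    have h5 : ∏ i ∈ range N, lin x0 1 i * geo x0 i ≤ 334 / 10 := by
      refine le_trans (prod_le_prod_of_subset_of_one_le (range_mono (show N ≤ 2 * (n + 1) by omega))
        (fun i _ => mul_nonneg (lin_nonneg _ _) (zero_le_one.trans (one_le_geo x0_pos.le x0_lt i))) fun i _ _ => ?_)
        (prod_plus (n + 1))
      refine one_le_mul_of_one_le_of_one_le ?_ (one_le_geo x0_pos.le x0_lt i)
      simp only [lin]
      split_ifs
      · exact one_le_pow₀ (by rw [one_mul]; exact le_add_of_nonneg_right (pow_nonneg x0_pos.le _))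
      · exact le_rfl
    linarith
  calc (Nat.card (Lab F N) : ℝ) ≤ (Nat.card (Σ c : {c : Cf N // Vd _ c}, ∀ i : Fin N, Fin ((c.1 i).1 : ℕ) → F) : ℝ) := by
        exact_mod_cast Nat.card_le_card_of_injective ψ hψ
    _ = ∑ c ∈ V, (q : ℝ) ^ (∑ i : Fin N, ((c i).1 : ℕ)) := by
        rw [Nat.card_sigma, Nat.cast_sum,
          Finset.sum_subtype (f := fun c : Cf N => (q : ℝ) ^ (∑ i : Fin N, ((c i).1 : ℕ))) V (p := fun c => Vd N c) (fun c => by simp [V])]
        refine sum_congr rfl fun c _ => ?_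
        simp [Nat.card_pi, Finset.prod_pow_eq_pow_sum, hq]
    _ ≤ ∑ c ∈ V, (q : ℝ) ^ n / x0 * G 1 (clr c) := sum_le_sum fun c hc => (hterm c hc).1
    _ = (q : ℝ) ^ n / x0 * ∑ c ∈ V.image clr, G 1 c := by rw [sum_image hclr, mul_sum]
    _ ≤ (q : ℝ) ^ n / x0 * (334 / 10 / 2) := by
        refine mul_le_mul_of_nonneg_left ((sum_le_sum_of_subset_of_nonneg (fun c hc => ?_) fun c _ _ => hG0 c).trans hodd)
          (div_nonneg (by positivity) x0_pos.le)
        obtain ⟨c', hc', rfl⟩ := mem_image.1 hc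
        exact mem_filter.2 ⟨mem_univ _, (hterm c' hc').2⟩
    _ ≤ _ := by
        rw [div_mul_eq_mul_div, div_le_iff₀ x0_pos]
        have h0 : (0 : ℝ) ≤ (q : ℝ) ^ n := by positivity
        have : (334 / 10 / 2 : ℝ) ≤ 2893 / 100 * x0 := by norm_num [x0]
        nlinarith

end Cfsg.Agent.Block.OddOrth
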