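import Cfsg.Agent.Lib.Classical.SympClassCount
import Cfsg.Agent.Lib.Classical.OrthClassNumeric

/-!
Encoding signed elementary divisors of odd total.
-/

set_option autoImplicit false

namespace Cfsg.Agent.Block.OddOrth

open Polynomial Module Cfsg.Agent.Classical Cfsg.Agent.Classical.SLClasses Cfsg.Agent.Classical.UnitClasses
  Cfsg.Agent.Classical.IsometryClasses Cfsg.Agent.UnitaryDetCentralizer UniqueFactorizationMonoid
open Cfsg.Agent.Classical.SympClasses (Good Wgtd tot PartRel part_rel)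

universe u

variable {F : Type u} [Field F]

attribute [local instance] Classical.propDecidable

/-- The possible elementary divisors of total `N`. -/
def GoodN (F : Type u) [Field F] (N : ℕ) (S : Multiset (F[X] × ℕ)) : Prop :=
  (∀ x ∈ S, x.1.Monic ∧ Irreducible x.1 ∧ x.1.coeff 0 ≠ 0 ∧ 1 ≤ x.2) ∧
    (S.map fun x => x.2 * x.1.natDegree).sum = N ∧ S.map (cd (RingHom.id F)) = S ∧
    ∀ y : F[X] × ℕ, (∃ δ : F, δ * δ = 1 ∧ y.1 = X - C δ) → ¬ IsSign (1 : F) y → Even (S.count y)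

/-- Elementary divisors with a choice of signs. -/
abbrev Lab (F : Type u) [Field F] (N : ℕ) : Type u :=
  {p : Multiset (F[X] × ℕ) × Finset (F[X] × ℕ) // GoodN F N p.1 ∧ ∀ x ∈ p.2, x ∈ p.1 ∧ IsSign (1 : F) x}

/-- Only the eigenvalues `±1` in the parts of size one. -/
def Rest (S : Multiset (F[X] × ℕ)) : Prop := ∀ x ∈ S, x.2 = 1 → x.1 = X - C 1 ∨ x.1 = X - C (-1)

/-- Shapes. -/
abbrev Cf (N : ℕ) : Type := Fin N → Fin (N + 1) × (Bool × Bool × Bool × Bool)

/-- Valid shapes. -/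
def Vd (N : ℕ) (c : Cf N) : Prop :=
  (∀ i : Fin N, ¬ Even (i : ℕ) → (c i).2 = (false, false, false, false)) ∧
    ∑ i : Fin N, ((i : ℕ) + 1) * (2 * ((c i).1 : ℕ) + tot (c i).2) = N

theorem part_sumN {N : ℕ} {S : Multiset (F[X] × ℕ)} (hS : GoodN F N S) :
    ∑ i : Fin N, ((i : ℕ) + 1) * ((part S ((i : ℕ) + 1)).map natDegree).sum = N := by
  obtain ⟨hmem, hsum, -⟩ := hS
  have hle : ∀ x ∈ S, 1 ≤ x.2 ∧ x.2 ≤ N := fun x hx => by
    obtain ⟨-, hi, -, hk⟩ := hmem x hx
    refine ⟨hk, le_trans ?_ (hsum ▸ Multiset.le_sum_of_mem (Multiset.mem_map_of_mem _ hx))⟩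
    exact Nat.le_mul_of_pos_right _ hi.natDegree_pos
  conv_rhs => rw [← hsum]
  rw [Fin.sum_univ_eq_sum_range (fun i => (i + 1) * ((part S (i + 1)).map natDegree).sum) N]
  clear hsum hmem
  induction S using Multiset.induction with
  | empty => simp [part]
  | cons x T ih =>
    have h1 : ∀ i, ((part (x ::ₘ T) (i + 1)).map natDegree).sum =
        (if x.2 = i + 1 then x.1.natDegree else 0) + ((part T (i + 1)).map natDegree).sum := fun i => by
      by_cases hx : x.2 = i + 1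
      · rw [part, Multiset.filter_cons_of_pos (p := fun y : F[X] × ℕ => y.2 = i + 1) T hx, if_pos hx]; simp [part]
      · rw [part, Multiset.filter_cons_of_neg (p := fun y : F[X] × ℕ => y.2 = i + 1) T hx, if_neg hx]; simp [part]
    simp only [h1, mul_add, Finset.sum_add_distrib, ih (fun y hy => hle y (Multiset.mem_cons_of_mem hy)),
      Multiset.map_cons, Multiset.sum_cons, add_left_inj]
    obtain ⟨hx1, hx2⟩ := hle x (Multiset.mem_cons_self _ _)
    rw [Finset.sum_eq_single (x.2 - 1), if_pos (by omega), show x.2 - 1 + 1 = x.2 by omega]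
    · intro i _ hi; rw [if_neg (by omega), mul_zero]
    · intro hi; exact absurd (Finset.mem_range.2 (by omega)) hi

variable [Finite F]

/-- The two encodings. -/
theorem exists_encodeN (h2 : (2 : F) ≠ 0) (n : ℕ) :
    (∃ ψ : Lab F (2 * n + 1) → Σ c : {c : Cf (2 * n + 1) // Vd _ c},
      ∀ i : Fin (2 * n + 1), Fin ((c.1 i).1 : ℕ) → F, Function.Injective ψ) ∧
    (∀ p : Lab F (2 * n + 1), ∃ x ∈ p.1.1, IsSign (1 : F) x) ∧
    ∃ ψ : {p : Lab F (2 * n + 1) // Rest p.1.1} → Σ c : {c : Cf (2 * n + 1) // Vd _ c},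
      Fin (((c.1 0).1 : ℕ) + 1) × (∀ i : {i : Fin (2 * n + 1) // i ≠ 0}, Fin ((c.1 i.1).1 : ℕ) → F),
      Function.Injective ψ := by
  obtain ⟨N, hN⟩ : ∃ N, 2 * n + 1 = N := ⟨_, rfl⟩
  let big : Lab F (2 * n + 1) → Wgtd F (1 : F) (2 * n + 2) := fun p =>
    ⟨((X - C 1, 2 * n + 3) ::ₘ p.1.1, p.1.2), ⟨fun x hx => by
        rcases Multiset.mem_cons.1 hx with rfl | hx
        · exact ⟨monic_X_sub_C _, irreducible_X_sub_C _, by simp, by dsimp; omega⟩
        · exact p.2.1.1 x hx,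
      by
        rw [Multiset.map_cons, Multiset.sum_cons, p.2.1.2.1, natDegree_X_sub_C]; omega,
      by
        rw [Multiset.map_cons, p.2.1.2.2.1]
        exact congrArg (· ::ₘ p.1.1) (Prod.ext (linear_facts (one_mul (1 : F))).2.2.2 rfl),
      fun y hy hns => by
        rw [Multiset.count_cons_of_ne]
        · exact p.2.1.2.2.2 y hy hns
        · rintro rfl
          exact hns ⟨1, one_mul 1, rfl, by rw [show 2 * n + 3 - 1 = 2 * (n + 1) by omega, pow_mul, neg_one_sq, one_pow, mul_one]⟩⟩,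
      fun x hx => ⟨Multiset.mem_cons_of_mem (p.2.2 x hx).1, (p.2.2 x hx).2⟩⟩
  choose m e P hR using fun p => part_rel h2 (n := 2 * n + 2) (1 : F) (big p)
  have hpart : ∀ (p : Lab F (2 * n + 1)) (k : ℕ), k ≤ 2 * n + 1 → part ((X - C 1, 2 * n + 3) ::ₘ p.1.1) k = part p.1.1 k :=
    fun p k hk => by
      rw [part, Multiset.filter_cons_of_neg (p := fun y : F[X] × ℕ => y.2 = k) _ (by dsimp; omega), ← part]
  have hsum : ∀ p, ∑ i : Fin (2 * n + 1), ((i : ℕ) + 1) * (2 * m p ((i : ℕ) + 1) + tot (e p ((i : ℕ) + 1))) = 2 * n + 1 := by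
    intro p
    refine Eq.trans (Finset.sum_congr rfl fun i _ => ?_) (part_sumN p.2.1)
    obtain ⟨-, -, -, -, h5, -⟩ := hR p ((i : ℕ) + 1)
    rw [← h5, hpart p _ (by omega)]
  have hlt : ∀ p (i : Fin (2 * n + 1)), m p ((i : ℕ) + 1) < 2 * n + 1 + 1 := fun p i => by
    have h1 := Finset.single_le_sum
      (f := fun i : Fin (2 * n + 1) => ((i : ℕ) + 1) * (2 * m p ((i : ℕ) + 1) + tot (e p ((i : ℕ) + 1))))
      (fun i _ => Nat.zero_le _) (Finset.mem_univ i)
    rw [hsum p] at h1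
    have h3 := Nat.le_mul_of_pos_left (2 * m p ((i : ℕ) + 1) + tot (e p ((i : ℕ) + 1))) (Nat.succ_pos (i : ℕ))
    rw [Nat.succ_eq_add_one] at h3
    omega
  let sh : Lab F (2 * n + 1) → {c : Cf (2 * n + 1) // Vd _ c} := fun p =>
    ⟨fun i => (⟨m p ((i : ℕ) + 1), hlt p i⟩, e p ((i : ℕ) + 1)), fun i hi =>
      (hR p ((i : ℕ) + 1)).2.2.2.2.2.1 (by
        rw [Nat.add_sub_cancel, one_mul, (Nat.not_even_iff_odd.1 hi).neg_one_pow]
        exact fun h => h2 (by linear_combination -h)), hsum p⟩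
  have hinj : ∀ p p' : Lab F (2 * n + 1), sh p = sh p' →
      (∀ i : Fin (2 * n + 1), normalizedFactors (P p ((i : ℕ) + 1)) = normalizedFactors (P p' ((i : ℕ) + 1))) → p = p' := by
    intro p p' hsh hnf
    have he : ∀ i : Fin (2 * n + 1), e p ((i : ℕ) + 1) = e p' ((i : ℕ) + 1) := fun i =>
      congrArg Prod.snd (congrFun (congrArg Subtype.val hsh) i)
    have hrange : ∀ (q : Lab F (2 * n + 1)), ∀ x ∈ q.1.1, ∃ i : Fin (2 * n + 1), x.2 = (i : ℕ) + 1 := by
      intro q x hx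
      obtain ⟨-, hi, -, hk⟩ := q.2.1.1 x hx
      have h1 : x.2 ≤ 2 * n + 1 := le_trans (Nat.le_mul_of_pos_right _ hi.natDegree_pos)
        ((Multiset.le_sum_of_mem (Multiset.mem_map_of_mem (fun y : F[X] × ℕ => y.2 * y.1.natDegree) hx)).trans_eq q.2.1.2.1)
      exact ⟨⟨x.2 - 1, by omega⟩, by simp; omega⟩
    have hpp : ∀ i : Fin (2 * n + 1), part p.1.1 ((i : ℕ) + 1) = part p'.1.1 ((i : ℕ) + 1) := fun i => by
      have a := (hR p ((i : ℕ) + 1)).2.2.2.2.2.2.1
      have b := (hR p' ((i : ℕ) + 1)).2.2.2.2.2.2.1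
      rw [← hnf i, ← he i] at b
      rw [← hpart p _ (by omega), ← hpart p' _ (by omega)]
      exact a.trans b.symm
    obtain ⟨⟨S, A⟩, hS, hA⟩ := p
    obtain ⟨⟨S', A'⟩, hS', hA'⟩ := p'
    have hSS : S = S' := Multiset.ext.2 fun x => by
      by_cases hx : ∃ i : Fin (2 * n + 1), x.2 = (i : ℕ) + 1
      · obtain ⟨i, hi⟩ := hx
        rw [← Multiset.count_filter_of_pos (p := fun y : F[X] × ℕ => y.2 = (i : ℕ) + 1) (s := S) hi,
          ← Multiset.count_filter_of_pos (p := fun y : F[X] × ℕ => y.2 = (i : ℕ) + 1) (s := S') hi,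
          filter_eq_part, filter_eq_part, hpp i]
      · rw [Multiset.count_eq_zero.2 fun h => hx (hrange ⟨(S, A), hS, hA⟩ x h),
          Multiset.count_eq_zero.2 fun h => hx (hrange ⟨(S', A'), hS', hA'⟩ x h)]
    subst hSS
    have hiff : ∀ i : Fin (2 * n + 1), ∀ δ : F, δ = 1 ∨ δ = -1 →
        ((X - C δ, (i : ℕ) + 1) ∈ A ↔ (X - C δ, (i : ℕ) + 1) ∈ A') := fun i δ hδ => by
      obtain ⟨-, -, -, -, -, -, -, a1, a2⟩ := hR ⟨(S, A), hS, hA⟩ ((i : ℕ) + 1)
      obtain ⟨-, -, -, -, -, -, -, b1, b2⟩ := hR ⟨(S, A'), hS', hA'⟩ ((i : ℕ) + 1)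
      rw [← he i] at b1 b2
      rcases hδ with rfl | rfl
      exacts [a1.symm.trans b1, a2.symm.trans b2]
    have hAA : A = A' := Finset.ext fun x => by
      have key : ∀ B : Finset (F[X] × ℕ), (∀ y ∈ B, y ∈ S ∧ IsSign (1 : F) y) → x ∈ B →
          ∃ (i : Fin (2 * n + 1)) (δ : F), (δ = 1 ∨ δ = -1) ∧ x = (X - C δ, (i : ℕ) + 1) := fun B hB hx => by
        obtain ⟨i, hi⟩ := hrange ⟨(S, A), hS, hA⟩ x (hB x hx).1
        obtain ⟨δ, hδ, hxd, -⟩ := (hB x hx).2
        exact ⟨i, δ, mul_self_eq_one_iff.1 hδ, Prod.ext hxd hi⟩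
      constructor
      · intro hx
        obtain ⟨i, δ, hδ, rfl⟩ := key A hA hx
        exact (hiff i δ hδ).1 hx
      · intro hx
        obtain ⟨i, δ, hδ, rfl⟩ := key A' hA' hx
        exact (hiff i δ hδ).2 hx
    subst hAA
    rfl
  have hPeq : ∀ p p' (k M : ℕ), m p k = M → m p' k = M →
      (∀ t, t < M → (P p k).coeff (t + 1) = (P p' k).coeff (t + 1)) → P p k = P p' k := by
    intro p p' k M hm hm' hcoeff
    obtain ⟨-, hd, h0, hs, -⟩ := hR p k
    obtain ⟨-, hd', h0', hs', -⟩ := hR p' k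
    rw [hm] at hd hs
    rw [hm'] at hd' hs'
    have hlow : ∀ u ≤ M, (P p k).coeff u = (P p' k).coeff u := fun u hu => by
      rcases u with _ | t
      · rw [h0, h0']
      · exact hcoeff t (by omega)
    refine Polynomial.ext fun u => ?_
    rcases lt_or_ge (2 * M) u with hu | hu
    · rw [coeff_eq_zero_of_natDegree_lt (hd.trans_lt hu), coeff_eq_zero_of_natDegree_lt (hd'.trans_lt hu)]
    rcases le_or_gt u M with hu' | hu'
    · exact hlow u hu'
    · rw [hs u hu, hs' u hu, hlow _ (by omega)]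
  have hsign : ∀ p : Lab F (2 * n + 1), ∃ x ∈ p.1.1, IsSign (1 : F) x := by
    intro p
    by_contra hno'
    push Not at hno'
    have he0 : ∀ i : Fin (2 * n + 1), tot (e p ((i : ℕ) + 1)) = 0 := fun i => by
      obtain ⟨-, -, -, -, -, h6, h7, -⟩ := hR p ((i : ℕ) + 1)
      by_cases hok : (1 : F) * (-1) ^ ((i : ℕ) + 1 - 1) = 1
      swap
      · rw [h6 hok]; rfl
      have hno : ∀ δ : F, δ * δ = 1 → X - C δ ∉ part p.1.1 ((i : ℕ) + 1) := fun δ hδ hm => by
        obtain ⟨x, hx, hxe⟩ := Multiset.mem_map.1 hm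
        obtain ⟨hxS, hxk⟩ := Multiset.mem_filter.1 hx
        exact hno' x hxS ⟨δ, hδ, hxe, by rw [hxk]; exact hok⟩
      have h7' := (hpart p ((i : ℕ) + 1) (by omega)).symm.trans h7
      have a1 : (e p ((i : ℕ) + 1)).1.toNat + (e p ((i : ℕ) + 1)).2.1.toNat = 0 := by
        by_contra h
        refine hno 1 (one_mul 1) ?_
        rw [h7']
        exact Multiset.mem_add.2 (Or.inl (Multiset.mem_add.2 (Or.inr (Multiset.mem_replicate.2 ⟨h, rfl⟩))))
      have a2 : (e p ((i : ℕ) + 1)).2.2.1.toNat + (e p ((i : ℕ) + 1)).2.2.2.toNat = 0 := by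
        by_contra h
        refine hno (-1) (by ring) ?_
        rw [h7']
        exact Multiset.mem_add.2 (Or.inr (Multiset.mem_replicate.2 ⟨h, rfl⟩))
      simp only [tot]; omega
    have h := hsum p
    simp only [he0, add_zero, mul_left_comm _ 2, ← Finset.mul_sum] at h
    omega
  refine ⟨⟨fun p => ⟨sh p, fun i t => (P p ((i : ℕ) + 1)).coeff ((t : ℕ) + 1)⟩, fun p p' hpp => ?_⟩, hsign, ?_⟩
  · have hm : ∀ i : Fin (2 * n + 1), m p ((i : ℕ) + 1) = m p' ((i : ℕ) + 1) := fun i =>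
      congrArg (fun z => ((z.1.1 i).1 : ℕ)) hpp
    refine hinj p p' (congrArg Sigma.fst hpp) fun i => congrArg normalizedFactors
      (hPeq p p' _ _ rfl (hm i).symm fun t ht => ?_)
    have h := congrArg (fun (z : Σ c : {c : Cf (2 * n + 1) // Vd _ c}, ∀ i : Fin (2 * n + 1), Fin ((c.1 i).1 : ℕ) → F) =>
      if h : t < ((z.1.1 i).1 : ℕ) then z.2 i ⟨t, h⟩ else 0) hpp
    simpa [sh, ht, hm i ▸ ht] using h
  -- the parts of size one
  have hone : ∀ p : {p : Lab F (2 * n + 1) // Rest p.1.1}, ∃ a : ℕ, a < m p.1 1 + 1 ∧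
      normalizedFactors (P p.1 1) = Multiset.replicate (2 * a) (X - C 1) + Multiset.replicate (2 * (m p.1 1 - a)) (X - C (-1)) := by
    intro p
    obtain ⟨hm1, hd, h0, -, -, -, h7, -⟩ := hR p.1 1
    set M := normalizedFactors (P p.1 1) with hM
    have hne : (X - C (1 : F)) ≠ X - C (-1) := fun h => h2 (by
      have := congrArg (fun P : F[X] => P.coeff 0) h
      simp at this
      linear_combination -this)
    have hmem : ∀ f ∈ M, f = X - C 1 ∨ f = X - C (-1) := fun f hf => by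
      have h1 : f ∈ part p.1.1.1 1 := by
        rw [← hpart p.1 1 (by omega), h7]
        exact Multiset.mem_add.2 (Or.inl (Multiset.mem_add.2 (Or.inl hf)))
      obtain ⟨x, hx, rfl⟩ := Multiset.mem_map.1 h1
      obtain ⟨hxS, hx1⟩ := Multiset.mem_filter.1 hx
      exact p.2 x hxS hx1
    have hdec : M = Multiset.replicate (M.count (X - C 1)) (X - C 1) + Multiset.replicate (M.count (X - C (-1))) (X - C (-1)) := by
      refine Multiset.ext.2 fun f => ?_
      rw [Multiset.count_add, Multiset.count_replicate, Multiset.count_replicate]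
      by_cases hf1 : f = X - C 1
      · subst hf1; rw [if_pos rfl, if_neg hne.symm]; rfl
      · by_cases hf2 : f = X - C (-1)
        · subst hf2; rw [if_neg hne, if_pos rfl, zero_add]
        · rw [if_neg (Ne.symm hf1), if_neg (Ne.symm hf2), Multiset.count_eq_zero.2 fun h => (hmem f h).elim hf1 hf2]
    set a := M.count (X - C 1)
    set b := M.count (X - C (-1))
    have hprod : P p.1 1 = (X - C 1) ^ a * (X - C (-1)) ^ b := by
      have := prod_normalizedFactors hm1.ne_zero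
      rw [← hM, hdec, Multiset.prod_add, Multiset.prod_replicate, Multiset.prod_replicate] at this
      exact (eq_of_monic_of_associated (((monic_X_sub_C 1).pow a).mul ((monic_X_sub_C (-1)).pow b)) hm1 this).symm
    have hab : a + b = 2 * m p.1 1 := by
      rw [← hd, hprod, ((monic_X_sub_C 1).pow a).natDegree_mul ((monic_X_sub_C (-1)).pow b), natDegree_pow,
        natDegree_pow, natDegree_X_sub_C, natDegree_X_sub_C, mul_one, mul_one]
    have hev : Even a := by
      rw [hprod, mul_coeff_zero, coeff_zero_eq_eval_zero, coeff_zero_eq_eval_zero] at h0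
      by_contra hodd
      simp [(Nat.not_even_iff_odd.1 hodd).neg_one_pow] at h0
      exact h2 (by linear_combination -h0)
    obtain ⟨c, hc⟩ := hev
    refine ⟨c, by omega, ?_⟩
    rw [hdec, show 2 * c = a by omega, show 2 * (m p.1 1 - c) = b by omega]
  choose a ha haeq using hone
  refine ⟨fun p => ⟨sh p.1, (⟨a p, ha p⟩, fun i t => (P p.1 ((i.1 : ℕ) + 1)).coeff ((t : ℕ) + 1))⟩, fun p p' hpp => ?_⟩
  have hm : ∀ i : Fin (2 * n + 1), m p.1 ((i : ℕ) + 1) = m p'.1 ((i : ℕ) + 1) := fun i =>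
    congrArg (fun z => ((z.1.1 i).1 : ℕ)) hpp
  have haa : a p = a p' := congrArg (fun z => (z.2.1 : ℕ)) hpp
  refine Subtype.ext (hinj p.1 p'.1 (congrArg Sigma.fst hpp) fun i => ?_)
  by_cases hi : i = 0
  · subst hi
    simp only [Fin.val_zero, zero_add]
    rw [haeq p, haeq p', haa, show m p.1 1 = m p'.1 1 by simpa using hm 0]
  · refine congrArg normalizedFactors (hPeq p.1 p'.1 _ _ rfl (hm i).symm fun t ht => ?_)
    have h := congrArg (fun (z : Σ c : {c : Cf (2 * n + 1) // Vd _ c},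
        Fin (((c.1 0).1 : ℕ) + 1) × (∀ i : {i : Fin (2 * n + 1) // i ≠ 0}, Fin ((c.1 i.1).1 : ℕ) → F)) =>
      if h : t < ((z.1.1 i).1 : ℕ) then z.2.2 ⟨i, hi⟩ ⟨t, h⟩ else 0) hpp
    simpa [sh, ht, hm i ▸ ht] using h

end Cfsg.Agent.Block.OddOrth
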