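import Mathlib

/-!
Class numbers of a kernel of a sign character: `2 k(ker χ) ≤ k(G) + 3 s` where `s` counts the classes in the
kernel whose centralisers lie in it.
-/

set_option autoImplicit false

namespace Cfsg.Agent.Block.OddOrth

open Finset

variable {G : Type*} [Group G] [Finite G]

/-- Commuting pairs count the classes. -/
theorem comm_card (H : Type*) [Group H] [Finite H] :
    Nat.card {p : H × H // Commute p.1 p.2} = Nat.card (ConjClasses H) * Nat.card H :=
  card_comm_eq_card_conjClasses_mul_card H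

theorem card_classes_prod (A B : Type*) [Group A] [Group B] [Finite A] [Finite B] :
    Nat.card (ConjClasses (A × B)) = Nat.card (ConjClasses A) * Nat.card (ConjClasses B) := by
  have e : Nat.card {p : (A × B) × (A × B) // Commute p.1 p.2} =
      Nat.card ({p : A × A // Commute p.1 p.2} × {p : B × B // Commute p.1 p.2}) :=
    Nat.card_congr
      { toFun := fun p => (⟨(p.1.1.1, p.1.2.1), congrArg Prod.fst p.2⟩, ⟨(p.1.1.2, p.1.2.2), congrArg Prod.snd p.2⟩)
        invFun := fun p => ⟨((p.1.1.1, p.2.1.1), (p.1.1.2, p.2.1.2)), Prod.ext p.1.2 p.2.2⟩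
        left_inv := fun p => rfl
        right_inv := fun p => rfl }
  rw [comm_card, Nat.card_prod {p : A × A // Commute p.1 p.2}, comm_card, comm_card, Nat.card_prod] at e
  refine Nat.eq_of_mul_eq_mul_right (m := Nat.card A * Nat.card B) (Nat.mul_pos Nat.card_pos Nat.card_pos) ?_
  rw [e]; ring

/-- The classes in the kernel whose centralisers lie in it. -/
def Split (χ : G →* ℤˣ) (g : G) : Prop := ∀ h : G, Commute g h → χ h = 1

theorem split_self {χ : G →* ℤˣ} {g : G} (h : Split χ g) : χ g = 1 := h g (Commute.refl g)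

theorem split_conj {χ : G →* ℤˣ} {g x : G} (h : Split χ g) : Split χ (x * g * x⁻¹) := fun y hy => by
  have h1 := h (x⁻¹ * y * x) (by
    have := Commute.conj_iff (h := x⁻¹) |>.2 hy
    simpa [mul_assoc] using this)
  rw [map_mul, map_mul, map_inv] at h1
  rwa [mul_comm (χ x)⁻¹, inv_mul_cancel_right] at h1

theorem card_classes_ker_le {χ : G →* ℤˣ} (hχ : Function.Surjective χ) :
    2 * Nat.card (ConjClasses χ.ker) ≤
      Nat.card (ConjClasses G) + 3 * Nat.card {C : ConjClasses G // ∃ g, ConjClasses.mk g = C ∧ Split χ g} ∧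
    Nat.card (ConjClasses G) ≤ 2 * Nat.card (ConjClasses χ.ker) := by
  classical
  haveI := Fintype.ofFinite G
  let a : G → ℕ := fun g => (univ.filter fun h => Commute g h ∧ χ h = 1).card
  let b : G → ℕ := fun g => (univ.filter fun h => Commute g h ∧ χ h = -1).card
  have hne : (1 : ℤˣ) ≠ -1 := by decide
  have hab : ∀ g, (univ.filter fun h => Commute g h).card = a g + b g := fun g => by
    rw [← card_union_of_disjoint (disjoint_filter.2 fun h _ h1 h2 => hne (h1.2.symm.trans h2.2))]
    refine congrArg card (ext fun h => ?_)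
    simp only [mem_filter, mem_univ, true_and, mem_union]
    rcases Int.units_eq_one_or (χ h) with e | e <;> simp [e]
  have hflip : ∀ g, ¬ Split χ g → a g = b g := fun g hg => by
    obtain ⟨h₀, hc, hχ₀⟩ : ∃ h₀, Commute g h₀ ∧ χ h₀ = -1 := by
      simp only [Split, not_forall] at hg
      obtain ⟨h₀, hc, hne'⟩ := hg
      exact ⟨h₀, hc, (Int.units_eq_one_or _).resolve_left hne'⟩
    refine card_bij' (fun h _ => h₀ * h) (fun h _ => h₀⁻¹ * h) (fun h hh => ?_) (fun h hh => ?_)
      (fun h _ => inv_mul_cancel_left _ _) (fun h _ => mul_inv_cancel_left _ _)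
    · simp only [mem_filter, mem_univ, true_and] at hh ⊢
      exact ⟨hc.mul_right hh.1, by rw [map_mul, hχ₀, hh.2, mul_one]⟩
    · simp only [mem_filter, mem_univ, true_and] at hh ⊢
      exact ⟨hc.inv_right.mul_right hh.1, by rw [map_mul, map_inv, hχ₀, hh.2]; decide⟩
  have hsplit : ∀ g, Split χ g → b g = 0 := fun g hg => card_eq_zero.2 (filter_eq_empty_iff.2 fun h _ hh =>
    hne ((hg h hh.1).symm.trans hh.2))
  set N := univ.filter fun g : G => χ g = 1 with hN
  set O := univ.filter fun g : G => χ g = -1 with hO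
  have hU : ∀ f : G → ℕ, ∑ g, f g = ∑ g ∈ N, f g + ∑ g ∈ O, f g := fun f => by
    rw [← sum_union (disjoint_filter.2 fun h _ h1 h2 => hne (h1.symm.trans h2))]
    exact sum_congr (ext fun h => by
      simp only [hN, hO, mem_union, mem_filter, mem_univ, true_and, true_iff]
      exact Int.units_eq_one_or _) fun _ _ => rfl
  have hswap : ∑ g ∈ N, b g = ∑ g ∈ O, a g := by
    simp only [a, b, card_filter, hN, hO]
    simp only [sum_filter, ite_sum_zero, ← ite_and]
    rw [sum_comm]
    refine sum_congr rfl fun h _ => sum_congr rfl fun g _ => ?_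
    refine if_congr ?_ rfl rfl
    exact ⟨fun ⟨x, y, z⟩ => ⟨z, y.symm, x⟩, fun ⟨x, y, z⟩ => ⟨z, y.symm, x⟩⟩
  have hO' : ∑ g ∈ O, a g = ∑ g ∈ O, b g := sum_congr rfl fun g hg => hflip g fun hs =>
    hne ((split_self hs).symm.trans (mem_filter.1 hg).2)
  have hG : Nat.card (ConjClasses G) * Nat.card G = ∑ g ∈ N, a g + 3 * ∑ g ∈ N, b g := by
    rw [← comm_card, Nat.card_eq_fintype_card, Fintype.card_subtype, card_filter, Fintype.sum_prod_type]
    simp only [← card_filter, hab]
    rw [sum_add_distrib, hU a, hU b, ← hO', ← hswap]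
    ring
  have hK : Nat.card (ConjClasses χ.ker) * Nat.card χ.ker = ∑ g ∈ N, a g := by
    rw [← comm_card, Nat.card_eq_fintype_card]
    let e : {p : χ.ker × χ.ker // Commute p.1 p.2} ≃ {p : G × G // χ p.1 = 1 ∧ Commute p.1 p.2 ∧ χ p.2 = 1} :=
      { toFun := fun p => ⟨(p.1.1.1, p.1.2.1), p.1.1.2, congrArg Subtype.val p.2, p.1.2.2⟩
        invFun := fun p => ⟨(⟨p.1.1, p.2.1⟩, ⟨p.1.2, p.2.2.2⟩), Subtype.ext p.2.2.1⟩
        left_inv := fun p => rfl
        right_inv := fun p => rfl }
    rw [Fintype.card_congr e, Fintype.card_subtype, card_filter, Fintype.sum_prod_type]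
    simp only [a, hN, card_filter, sum_filter, ite_sum_zero, ← ite_and]
  have hcard : Nat.card G = 2 * Nat.card χ.ker := by
    rw [← Subgroup.index_mul_card χ.ker, Subgroup.index_ker, MonoidHom.range_eq_top.2 hχ, Subgroup.card_top,
      Nat.card_eq_fintype_card (α := ℤˣ)]
    rfl
  have hle : ∑ g ∈ N, b g ≤ ∑ g ∈ N, a g := sum_le_sum fun g _ => by
    by_cases hs : Split χ g
    · rw [hsplit g hs]; exact Nat.zero_le _
    · exact (hflip g hs).ge
  set S := Nat.card {C : ConjClasses G // ∃ g, ConjClasses.mk g = C ∧ Split χ g} with hS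
  have hdiff : ∑ g ∈ N, a g ≤ ∑ g ∈ N, b g + S * Nat.card G := by
    have h1 : ∀ g ∈ N, a g ≤ b g + if Split χ g then (univ.filter fun h => Commute g h).card else 0 := fun g _ => by
      by_cases hs : Split χ g
      · rw [if_pos hs, hab]; omega
      · rw [if_neg hs, add_zero]; exact (hflip g hs).le
    refine (sum_le_sum h1).trans ?_
    rw [sum_add_distrib, Nat.add_le_add_iff_left, ← sum_filter]
    rw [← sum_fiberwise_of_maps_to (g := fun g : G => ConjClasses.mk g)
      (t := univ.filter fun C => ∃ g, ConjClasses.mk g = C ∧ Split χ g)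
      (fun g hg => mem_filter.2 ⟨mem_univ _, g, rfl, (mem_filter.1 hg).2⟩)]
    refine (sum_le_card_nsmul _ _ (Nat.card G) fun C hC => ?_).trans_eq ?_
    · obtain ⟨g₀, hg₀, -⟩ := (mem_filter.1 hC).2
      refine (sum_le_sum_of_subset (t := univ.filter fun g => ConjClasses.mk g = C) fun g hg =>
        mem_filter.2 ⟨mem_univ _, (mem_filter.1 hg).2⟩).trans_eq ?_
      have hc : ∀ g ∈ univ.filter (fun g => ConjClasses.mk g = C),
          (univ.filter fun h => Commute g h).card = Nat.card (MulAction.stabilizer (ConjAct G) g₀) := fun g hg => by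
        obtain ⟨x, hx⟩ := isConj_iff.1 (ConjClasses.mk_eq_mk_iff_isConj.1 (hg₀.trans (mem_filter.1 hg).2.symm))
        rw [Nat.card_eq_fintype_card, ← Fintype.card_subtype]
        subst hx
        refine Fintype.card_congr
          { toFun := fun h => ⟨ConjAct.toConjAct (x⁻¹ * h.1 * x), ?_⟩
            invFun := fun h => ⟨x * ConjAct.ofConjAct h.1 * x⁻¹, ?_⟩
            left_inv := fun h => Subtype.ext (by simp [mul_assoc])
            right_inv := fun h => Subtype.ext (by simp [mul_assoc]) }
        · rw [MulAction.mem_stabilizer_iff, ConjAct.smul_def, ConjAct.ofConjAct_toConjAct, mul_inv_eq_iff_eq_mul]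
          have h2 := congrArg (fun y => x⁻¹ * y * x) h.2.eq
          simpa [mul_assoc] using h2.symm
        · have h2 := h.2
          rw [MulAction.mem_stabilizer_iff, ConjAct.smul_def, mul_inv_eq_iff_eq_mul] at h2
          exact (Commute.conj_iff x).2 (h2.symm : Commute g₀ (ConjAct.ofConjAct h.1))
      rw [sum_congr rfl hc, sum_const, smul_eq_mul]
      rw [← Nat.card_congr (ConjAct.ofConjAct (G := G)).toEquiv, ← Subgroup.index_mul_card (MulAction.stabilizer (ConjAct G) g₀),
        MulAction.index_stabilizer, ConjAct.orbit_eq_carrier_conjClasses, hg₀]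
      congr 1
      rw [← Set.ncard_coe_finset]
      refine congrArg Set.ncard (Set.ext fun g => ?_)
      simp [ConjClasses.mem_carrier_iff_mk_eq]
    · rw [smul_eq_mul, hS, Nat.card_eq_fintype_card (α := {C : ConjClasses G // _}), Fintype.card_subtype]
  constructor
  · refine Nat.le_of_mul_le_mul_right ?_ (Nat.card_pos (α := G))
    calc 2 * Nat.card (ConjClasses χ.ker) * Nat.card G = 4 * (Nat.card (ConjClasses χ.ker) * Nat.card χ.ker) := by
          rw [hcard]; ring
      _ = 4 * ∑ g ∈ N, a g := by rw [hK]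
      _ ≤ ∑ g ∈ N, a g + 3 * ∑ g ∈ N, b g + 3 * (S * Nat.card G) := by omega
      _ = _ := by rw [← hG]; ring
  · refine Nat.le_of_mul_le_mul_right ?_ (Nat.card_pos (α := G))
    calc Nat.card (ConjClasses G) * Nat.card G = ∑ g ∈ N, a g + 3 * ∑ g ∈ N, b g := hG
      _ ≤ 4 * ∑ g ∈ N, a g := by omega
      _ = _ := by rw [← hK, hcard]; ring

end Cfsg.Agent.Block.OddOrth
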