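import Cfsg.Agent.Lib.Block.OddOrth.Classes
import Cfsg.Agent.Lib.Block.OddOrth.Group

/-!
`q ^ n / 2 ≤ k(Ω(2n+1, q)) ≤ 7.3 q ^ n` for odd `q`.
-/

set_option autoImplicit false
set_option linter.unusedSectionVars false

namespace Cfsg.Agent.Block.OddOrth

open Matrix Cfsg Cfsg.Agent.Classical Cfsg.Agent.Classical.OrthAut

universe u

variable {F : Type u} [Field F] [Fintype F] {ι : Type} [Fintype ι] [DecidableEq ι] {n : ℕ}
  {Q : QuadraticForm F (ι → F)}

theorem card_classes_units : Nat.card (ConjClasses ℤˣ) = 2 := by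
  rw [← Nat.card_congr (Equiv.ofBijective (ConjClasses.mk : ℤˣ → ConjClasses ℤˣ)
    ⟨fun a b h => isConj_iff_eq.1 (ConjClasses.mk_eq_mk_iff_isConj.1 h), ConjClasses.mk_surjective⟩),
    Nat.card_eq_fintype_card]
  rfl

theorem card_classes_congr {A C : Type*} [Group A] [Group C] [Finite A] [Finite C] (e : A ≃* C) :
    Nat.card (ConjClasses A) = Nat.card (ConjClasses C) :=
  le_antisymm (Nat.card_le_card_of_surjective (ConjClasses.map e.symm.toMonoidHom) (ConjClasses.map_surjective e.symm.surjective))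
    (Nat.card_le_card_of_surjective (ConjClasses.map e.toMonoidHom) (ConjClasses.map_surjective e.surjective))

theorem card_classes_omega (hn : 2 ≤ n) (h : Fintype.card ι = 2 * n + 1) (h2 : (2 : F) ≠ 0)
    (hQ : (QuadraticMap.polarBilin Q).Nondegenerate) :
    Fintype.card F ^ n ≤ 2 * Nat.card (ConjClasses ↥(Omega F ⇑Q)) ∧
      10 * Nat.card (ConjClasses ↥(Omega F ⇑Q)) ≤ 73 * Fintype.card F ^ n := by
  classical
  set G := isometryGroup F ⇑Q
  have hG := genQ_odd hQ h2
  let dk : G →* ℤˣ := dickGen hQ hG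
  let sp : G →* ℤˣ := spinHom hQ
  obtain ⟨z, hz⟩ : ∃ z : G, ogVal z = -1 := ⟨mkIsometry (-1 : Matrix ι ι F)
    (by rw [Matrix.det_neg, Matrix.det_one, mul_one]; exact pow_ne_zero _ (neg_ne_zero.2 one_ne_zero))
    (fun v => by rw [Matrix.neg_mulVec, Matrix.one_mulVec, QuadraticMap.map_neg]), rfl⟩
  have hzc : ∀ x : G, Commute z x := fun x => ogVal_ext (by
    rw [ogVal_mul, ogVal_mul, hz]; simp)
  have hzz : z * z = 1 := ogVal_ext (by rw [ogVal_mul, hz]; simp)
  have hzd : dk z = -1 := by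
    show dick z = -1
    have hfix : fixSub z = ⊥ := eq_bot_iff.2 fun x hx => by
      rw [mem_fixSub, hz, Matrix.neg_mulVec, Matrix.one_mulVec] at hx
      rw [Submodule.mem_bot]
      by_contra hx0
      exact ne_neg_self h2 hx0 hx.symm
    rw [dick, hfix, finrank_bot, add_zero, h, pow_succ, pow_mul, Int.units_sq, one_pow, one_mul]
  let χ : G →* ℤˣ := if sp z = 1 then sp else sp * dk
  have hχz : χ z = 1 := by
    by_cases hs : sp z = 1
    · simp [χ, hs]
    · simp [χ, hs, hzd, (Int.units_eq_one_or (sp z)).resolve_left hs]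
  have hχdef : ∀ x, χ x = sp x * if sp z = 1 then 1 else dk x := fun x => by
    by_cases hs : sp z = 1 <;> simp [χ, hs]
  obtain ⟨y, hy⟩ := invHom_surjective hQ hG h2 (by omega) ((1 : ℤˣ), (-1 : ℤˣ))
  have hyd : dk y = 1 ∧ sp y = -1 := ⟨congrArg Prod.fst hy, congrArg Prod.snd hy⟩
  have hsurj : Function.Surjective χ := fun t => by
    rcases Int.units_eq_one_or t with rfl | rfl
    · exact ⟨1, map_one χ⟩
    · exact ⟨y, by rw [hχdef, hyd.1, hyd.2]; simp⟩
  obtain ⟨hup, hlow⟩ := card_classes_ker_le hsurj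
  -- the kernel
  let zm : ℤˣ →* G := MonoidHom.mk' (fun u => if u = 1 then 1 else z) fun a b => by
    rcases Int.units_eq_one_or a with rfl | rfl <;> rcases Int.units_eq_one_or b with rfl | rfl <;> simp [hzz]
  have hzmd : ∀ u, dk (zm u) = u := fun u => by
    rcases Int.units_eq_one_or u with rfl | rfl <;> simp [zm, hzd]
  have hzmχ : ∀ u, χ (zm u) = 1 := fun u => by
    rcases Int.units_eq_one_or u with rfl | rfl <;> simp [zm, hχz]
  have hzmc : ∀ u x, Commute (zm u) x := fun u x => by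
    rcases Int.units_eq_one_or u with rfl | rfl <;> simp [zm, hzc]
  have hmem : ∀ x : G, x ∈ Omega F ⇑Q ↔ dk x = 1 ∧ sp x = 1 := fun x => mem_omega_gen hQ hG x
  let ψ : Omega F ⇑Q × ℤˣ ≃* χ.ker :=
    { toFun := fun p => ⟨(p.1 : G) * zm p.2, by
        rw [MonoidHom.mem_ker, map_mul, hzmχ, mul_one, hχdef, ((hmem _).1 p.1.2).1, ((hmem _).1 p.1.2).2]; simp⟩
      invFun := fun k => (⟨(k : G) * zm (dk k), (hmem _).2 ⟨by rw [map_mul, hzmd, Int.units_mul_self], by
        have h1 : χ ((k : G) * zm (dk k)) = 1 := by rw [map_mul, hzmχ, mul_one]; exact k.2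
        rw [hχdef, map_mul dk, hzmd, Int.units_mul_self] at h1
        simpa using h1⟩⟩, dk k)
      left_inv := fun p => by
        have e : dk ((p.1 : G) * zm p.2) = p.2 := by rw [map_mul, hzmd, ((hmem _).1 p.1.2).1, one_mul]
        refine Prod.ext (Subtype.ext ?_) e
        show (p.1 : G) * zm p.2 * zm (dk ((p.1 : G) * zm p.2)) = p.1
        rw [e, mul_assoc, ← map_mul, Int.units_mul_self, map_one, mul_one]
      right_inv := fun k => Subtype.ext (by
        show (k : G) * zm (dk k) * zm (dk k) = k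
        rw [mul_assoc, ← map_mul, Int.units_mul_self, map_one, mul_one])
      map_mul' := fun p r => Subtype.ext (by
        show ((p.1 * r.1 : Omega F ⇑Q) : G) * zm (p.2 * r.2) = (p.1 : G) * zm p.2 * ((r.1 : G) * zm r.2)
        rw [Subgroup.coe_mul, map_mul]
        simp only [mul_assoc]
        rw [← mul_assoc (zm p.2) (r.1 : G), (hzmc p.2 r.1).eq, mul_assoc]) }
  have hK : Nat.card (ConjClasses χ.ker) = 2 * Nat.card (ConjClasses ↥(Omega F ⇑Q)) := by
    rw [← card_classes_congr ψ, card_classes_prod, card_classes_units, mul_comm]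
  -- counts
  obtain ⟨f, hf, hrest⟩ := exists_classes_inj h h2 hQ
  obtain ⟨hfinL, hL⟩ := card_lab_le (F := F) h2 n
  obtain ⟨hfinR, hR⟩ := card_rest_le (F := F) h2 hn
  have hk : ((2 * Nat.card (ConjClasses G) : ℕ) : ℝ) ≤ 2893 / 100 * (Fintype.card F : ℝ) ^ n := by
    refine le_trans ?_ hL
    have h1 := Nat.card_le_card_of_injective f hf
    rw [Nat.card_prod, Nat.card_eq_fintype_card (α := Bool), Fintype.card_bool] at h1
    exact_mod_cast h1
  have hs : 2 * Nat.card {C : ConjClasses G // ∃ g, ConjClasses.mk g = C ∧ Split χ g} ≤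
      Nat.card {p : Lab F (2 * n + 1) // Rest p.1.1} := by
    let f' : Bool × {C : ConjClasses G // ∃ g, ConjClasses.mk g = C ∧ Split χ g} →
        {p : Lab F (2 * n + 1) // Rest p.1.1} := fun p =>
      ⟨f (p.1, p.2.1), hrest _ fun g hg x hx1 hxm S hS hmemS => by
        obtain ⟨g₀, hg₀, hsp⟩ := p.2.2
        obtain ⟨a, ha⟩ := isConj_iff.1 (ConjClasses.mk_eq_mk_iff_isConj.1 (hg₀.trans hg.symm))
        obtain ⟨h', hc, hd, hsn⟩ := exists_witness h2 h hQ g hS hmemS hx1 hxm
        have h1 := (ha ▸ split_conj hsp : Split χ g) h' hc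
        rw [hχdef, show sp h' = -1 from hsn, show dk h' = 1 from hd] at h1
        simp at h1⟩
    have hf' : Function.Injective f' := fun p r hpr => by
      have := hf (congrArg Subtype.val hpr)
      exact Prod.ext (congrArg Prod.fst this :) (Subtype.ext (congrArg Prod.snd this :))
    have h1 := Nat.card_le_card_of_injective f' hf'
    rwa [Nat.card_prod, Nat.card_eq_fintype_card (α := Bool), Fintype.card_bool] at h1
  rw [hK] at hup hlow
  refine ⟨?_, ?_⟩
  · have : 2 * Fintype.card F ^ n ≤ Nat.card (ConjClasses G) := two_mul_pow_le h h2 hQ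
    omega
  · have hs' : ((50 * (2 * Nat.card {C : ConjClasses G // ∃ g, ConjClasses.mk g = C ∧ Split χ g}) : ℕ) : ℝ) ≤
        ((491 * Fintype.card F ^ n : ℕ) : ℝ) := Nat.cast_le.2 (le_trans (Nat.mul_le_mul_left 50 hs) hR)
    have hup' : ((2 * (2 * Nat.card (ConjClasses ↥(Omega F ⇑Q))) : ℕ) : ℝ) ≤
        ((Nat.card (ConjClasses G) + 3 * Nat.card {C : ConjClasses G // ∃ g, ConjClasses.mk g = C ∧ Split χ g} : ℕ) : ℝ) :=
      Nat.cast_le.2 hup
    push_cast at hk hs' hup'
    have h0 : (0 : ℝ) ≤ (Fintype.card F : ℝ) ^ n := by positivity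
    have hfin : ((10 * Nat.card (ConjClasses ↥(Omega F ⇑Q)) : ℕ) : ℝ) ≤ ((73 * Fintype.card F ^ n : ℕ) : ℝ) := by
      push_cast
      linarith
    exact_mod_cast hfin

end Cfsg.Agent.Block.OddOrth
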