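import Cfsg.Agent.Lib.Classical.IsometryDisc
import Cfsg.Agent.Lib.Classical.QuadBasic
import Cfsg.Agent.Lib.Classical.QuadClass

/-!
The triple of an orthogonal transformation in any dimension.
-/

set_option autoImplicit false

namespace Cfsg.Agent.Block.OddOrth

open Polynomial Module Matrix Cfsg Cfsg.Agent.Classical Cfsg.Agent.Classical.IsometryClasses

universe u

variable {F : Type u} [Field F] {ι : Type} [Fintype ι] [DecidableEq ι] {N : ℕ}

/-- Coordinates. -/
noncomputable def coordsN (h : Fintype.card ι = N) (F : Type u) [Field F] : (Fin N → F) ≃ₗ[F] (ι → F) :=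
  LinearEquiv.funCongrLeft F F (Fintype.equivFinOfCardEq h)

theorem polar_mulVec {Q : QuadraticForm F (ι → F)} (g : isometryGroup F ⇑Q) (x y : ι → F) :
    QuadraticMap.polar ⇑Q (((g : GL ι F) : Matrix ι ι F) *ᵥ x) (((g : GL ι F) : Matrix ι ι F) *ᵥ y) =
      QuadraticMap.polar ⇑Q x y := by
  simp only [QuadraticMap.polar, ← Matrix.mulVec_add, mem_isometryGroup.1 g.2]

/-- The triple. -/
noncomputable def triN (h : Fintype.card ι = N) {Q : QuadraticForm F (ι → F)}
    (hQ : (QuadraticMap.polarBilin Q).Nondegenerate) (g : isometryGroup F ⇑Q) : IsometryClasses.Tri F (1 : F) where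
  n := N
  B := (QuadraticMap.polarBilin Q).compl₁₂ (coordsN h F).toLinearMap (coordsN h F).toLinearMap
  g := (coordsN h F).symm.toLinearMap ∘ₗ (Matrix.toLin' ((g : GL ι F) : Matrix ι ι F)) ∘ₗ (coordsN h F).toLinearMap
  nondeg := ⟨fun x hx => (coordsN h F).injective ((hQ.1 _ fun v => by
      simpa using hx ((coordsN h F).symm v)).trans (map_zero _).symm),
    fun x hx => (coordsN h F).injective ((hQ.2 _ fun v => by
      simpa using hx ((coordsN h F).symm v)).trans (map_zero _).symm)⟩
  sym x y := by simp [QuadraticMap.polar_comm]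
  isom x y := by simp [polar_mulVec]

theorem triN_g (h : Fintype.card ι = N) {Q : QuadraticForm F (ι → F)}
    (hQ : (QuadraticMap.polarBilin Q).Nondegenerate) (g : isometryGroup F ⇑Q) (x : Fin N → F) :
    coordsN h F ((triN h hQ g).g x) = ((g : GL ι F) : Matrix ι ι F) *ᵥ coordsN h F x := by
  change coordsN h F ((coordsN h F).symm (Matrix.toLin' ((g : GL ι F) : Matrix ι ι F) (coordsN h F x))) = _
  rw [LinearEquiv.apply_symm_apply, Matrix.toLin'_apply]

theorem triN_B (h : Fintype.card ι = N) {Q : QuadraticForm F (ι → F)}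
    (hQ : (QuadraticMap.polarBilin Q).Nondegenerate) (g : isometryGroup F ⇑Q) (x y : Fin N → F) :
    (triN h hQ g).B x y = QuadraticMap.polar ⇑Q (coordsN h F x) (coordsN h F y) := rfl

theorem isConj_of_triN (h : Fintype.card ι = N) (h2 : (2 : F) ≠ 0) {Q : QuadraticForm F (ι → F)}
    (hQ : (QuadraticMap.polarBilin Q).Nondegenerate) {g g' : isometryGroup F ⇑Q}
    (e : (triN h hQ g).Iso (triN h hQ g')) : IsConj g g' := by
  obtain ⟨φ, hB, hg⟩ := e
  change ((Fin N → F) ≃ₗ[F] (Fin N → F)) at φ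
  let L : (ι → F) ≃ₗ[F] (ι → F) := (coordsN h F).symm.trans (φ.trans (coordsN h F))
  have hL : ∀ v, (LinearMap.toMatrix' L.toLinearMap) *ᵥ v = L v := fun v => by
    rw [← Matrix.toLin'_apply, Matrix.toLin'_toMatrix']; rfl
  have hQL : ∀ v, Q (L v) = Q v := fun v => by
    have h1 : QuadraticMap.polarBilin Q (coordsN h F (φ ((coordsN h F).symm v))) (coordsN h F (φ ((coordsN h F).symm v))) =
        QuadraticMap.polarBilin Q (coordsN h F ((coordsN h F).symm v)) (coordsN h F ((coordsN h F).symm v)) := hB _ _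
    rw [LinearEquiv.apply_symm_apply, QuadraticMap.polarBilin_apply_apply, QuadraticMap.polarBilin_apply_apply,
      QuadraticMap.polar_self, QuadraticMap.polar_self] at h1
    simp only [smul_eq_mul, nsmul_eq_mul, Nat.cast_ofNat] at h1
    exact mul_left_cancel₀ h2 h1
  have hd : (LinearMap.toMatrix' L.toLinearMap).det ≠ 0 := by
    rw [LinearMap.det_toMatrix']
    exact L.isUnit_det'.ne_zero
  refine isConj_iff.2 ⟨mkIsometry _ hd (fun v => by rw [hL]; exact hQL v), mul_inv_eq_iff_eq_mul.2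
    (Subtype.ext (Units.ext (Matrix.ext_iff_mulVec.2 fun v => ?_)))⟩
  show (LinearMap.toMatrix' L.toLinearMap * ((g : GL ι F) : Matrix ι ι F)) *ᵥ v =
    (((g' : GL ι F) : Matrix ι ι F) * LinearMap.toMatrix' L.toLinearMap) *ᵥ v
  rw [← Matrix.mulVec_mulVec, ← Matrix.mulVec_mulVec, hL, hL]
  show (coordsN h F) (φ ((coordsN h F).symm (((g : GL ι F) : Matrix ι ι F) *ᵥ v))) =
    ((g' : GL ι F) : Matrix ι ι F) *ᵥ (coordsN h F) (φ ((coordsN h F).symm v))
  have h1 : φ ((triN h hQ g).g ((coordsN h F).symm v)) = (triN h hQ g').g (φ ((coordsN h F).symm v)) := hg _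
  have h2' : (triN h hQ g).g ((coordsN h F).symm v) = (coordsN h F).symm (((g : GL ι F) : Matrix ι ι F) *ᵥ v) :=
    (coordsN h F).injective (by rw [triN_g, LinearEquiv.apply_symm_apply, LinearEquiv.apply_symm_apply])
  rw [← h2', h1, triN_g]

end Cfsg.Agent.Block.OddOrth
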