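import Cfsg.Agent.Lib.Block.OddOrth.Tri
import Cfsg.Agent.Lib.Classical.OrthSpinor
import Cfsg.Agent.Lib.Classical.SympClassCount

/-!
An isometry with a simple self-dual part commutes with an element of determinant one and non-trivial spinor norm.
-/

set_option autoImplicit false
set_option linter.unusedSectionVars false
set_option quotPrecheck false

namespace Cfsg.Agent.Block.OddOrth

open Polynomial Module Matrix Cfsg Cfsg.Agent.Classical Cfsg.Agent.Classical.OrthAut

universe u

variable {F : Type u} [Field F] [Fintype F] {ι : Type} [Fintype ι] [DecidableEq ι] {Q : QuadraticForm F (ι → F)}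

local notation "OG" => isometryGroup F ⇑Q
local notation "PB" => QuadraticMap.polar ⇑Q

/-- The reflection in a non-degenerate subspace. -/
theorem exists_refl_span (h2 : (2 : F) ≠ 0) (hQ : (QuadraticMap.polarBilin Q).Nondegenerate) {X : Type u}
    [AddCommGroup X] [Module F X] {l : ℕ} (bX : Module.Basis (Fin l) F X) (L : X →ₗ[F] (ι → F))
    (hnd : ((QuadraticMap.polarBilin Q).compl₁₂ L L).Nondegenerate) :
    ∃ r : OG, (∀ x, ogVal r *ᵥ L x = -L x) ∧ (∀ w, (∀ x, PB w (L x) = 0) → ogVal r *ᵥ w = w) ∧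
      dick r = (-1) ^ l ∧ spin r = sqSign ((2 ^ l : F)⁻¹ * gramDet ((QuadraticMap.polarBilin Q).compl₁₂ L L) bX) := by
  classical
  haveI : Invertible (2 : F) := invertibleOfNonzero h2
  set β := (QuadraticMap.polarBilin Q).compl₁₂ L L with hβ
  haveI : FiniteDimensional F X := bX.finiteDimensional_of_finite
  obtain ⟨b, hb⟩ := LinearMap.BilinForm.exists_orthogonal_basis (B := β)
    (show LinearMap.IsSymm β from ⟨fun x y => QuadraticMap.polar_comm _ _ _⟩)
  have hl : finrank F X = l := by rw [Module.finrank_eq_card_basis bX, Fintype.card_fin]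
  let e := finCongr hl
  let c := b.reindex e
  have hc : ∀ i j, i ≠ j → PB (L (c i)) (L (c j)) = 0 := fun i j hij => by
    have := hb (show e.symm i ≠ e.symm j from fun h => hij (e.symm.injective h))
    simpa [c, β, LinearMap.IsOrthoᵢ, Function.onFun] using this
  have hv : ∀ i, Q (L (c i)) ≠ 0 := fun i h0 => c.ne_zero i (hnd.1 _ fun z => by
    have h1 : β (c i) = 0 := c.ext fun j => by
      by_cases hij : i = j
      · subst hij
        show PB (L (c i)) (L (c i)) = 0
        rw [QuadraticMap.polar_self, h0, smul_zero]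
      · exact hc i j hij
    rw [h1, LinearMap.zero_apply])
  let rs : List OG := (List.finRange l).map fun i => refl (hv i)
  have key : ∀ s : List (Fin l), s.Nodup →
      (∀ i, ogVal (s.map fun i => refl (hv i)).prod *ᵥ L (c i) = if i ∈ s then -L (c i) else L (c i)) ∧
      (∀ w, (∀ x, PB w (L x) = 0) → ogVal (s.map fun i => refl (hv i)).prod *ᵥ w = w) ∧
      dick (s.map fun i => refl (hv i)).prod = (-1) ^ s.length ∧
      spin (s.map fun i => refl (hv i)).prod = sqSign ((s.map fun i => Q (L (c i))).prod) := by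
    intro s
    induction s with
    | nil =>
      intro _
      refine ⟨fun i => by simp, fun w _ => by simp, by simp [dick_one], ?_⟩
      rw [List.map_nil, List.prod_nil, List.map_nil, List.prod_nil, sqSign_of_isSquare IsSquare.one]
      exact map_one (spinHom hQ)
    | cons a s ih =>
      intro hs
      obtain ⟨has, hs'⟩ := List.nodup_cons.1 hs
      obtain ⟨h1, h3, h4, h5⟩ := ih hs'
      simp only [List.map_cons, List.prod_cons, List.length_cons]
      refine ⟨fun i => ?_, fun w hw => ?_, ?_, ?_⟩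
      · rw [ogVal_mul, ← Matrix.mulVec_mulVec, h1 i]
        by_cases hia : i = a
        · subst hia
          rw [if_neg has, if_pos List.mem_cons_self, refl_apply, QuadraticMap.polar_self]
          match_scalars
          linear_combination -(2 : F) * mul_inv_cancel₀ (hv i)
        · have h0 : ogVal (refl (hv a)) *ᵥ L (c i) = L (c i) := by
            rw [refl_apply, hc a i (Ne.symm hia), mul_zero, zero_smul, sub_zero]
          by_cases his : i ∈ s
          · rw [if_pos his, if_pos (List.mem_cons_of_mem _ his), Matrix.mulVec_neg, h0]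
          · rw [if_neg his, if_neg (by simp [hia, his]), h0]
      · rw [ogVal_mul, ← Matrix.mulVec_mulVec, h3 w hw, refl_apply, QuadraticMap.polar_comm, hw, mul_zero, zero_smul,
          sub_zero]
      · rw [dick_refl_mul hQ _ (hv a), h4, pow_succ', neg_one_mul]
      · rw [spin_mul hQ, spin_refl hQ, h5, sqSign_mul (hv a) (List.prod_ne_zero (by simpa using fun i _ => hv i))]
  obtain ⟨k1, k2, k3, k4⟩ := key (List.finRange l) (List.nodup_finRange l)
  refine ⟨((List.finRange l).map fun i => refl (hv i)).prod, fun x => ?_, k2, by rw [k3, List.length_finRange], ?_⟩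
  · have : (Matrix.mulVecLin (ogVal ((List.finRange l).map fun i => refl (hv i)).prod)).comp L = -L :=
      c.ext fun i => by simpa using k1 i
    exact LinearMap.congr_fun this x
  · rw [k4, ← Fin.prod_univ_def]
    obtain ⟨t, ht0, ht⟩ := gramDet_change β c bX
    have hg : gramDet β c = (2 : F) ^ l * ∏ i, Q (L (c i)) := by
      rw [gramDet, show LinearMap.BilinForm.toMatrix c β = Matrix.diagonal fun i => 2 * Q (L (c i)) from
        Matrix.ext fun i j => by
          rw [LinearMap.BilinForm.toMatrix_apply]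
          by_cases hij : i = j
          · subst hij
            rw [Matrix.diagonal_apply_eq]
            show PB (L (c i)) (L (c i)) = _
            rw [QuadraticMap.polar_self, nsmul_eq_mul, Nat.cast_ofNat]
          · rw [Matrix.diagonal_apply_ne _ hij]; exact hc i j hij]
      rw [Matrix.det_diagonal, Finset.prod_mul_distrib, Finset.prod_const, Finset.card_univ, Fintype.card_fin]
    rw [ht, hg, show (2 ^ l : F)⁻¹ * (t ^ 2 * (2 ^ l * ∏ i, Q (L (c i)))) = t ^ 2 * ∏ i, Q (L (c i)) by field_simp,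
      sqSign_mul (pow_ne_zero 2 ht0) (Finset.prod_ne_zero_iff.2 fun i _ => hv i), sqSign_of_isSquare ⟨t, pow_two t⟩,
      one_mul]

section Algebra

open Cfsg.Agent.Classical.IsometryClasses

variable {T : IsometryClasses.Tri F (1 : F)} {R : F[X]}

/-- The symmetrical elements. -/
noncomputable def symA (h : aeval (rinv R) R = 0) : Subalgebra F (AdjoinRoot R) :=
  AlgHom.equalizer (dmap R R h) (AlgHom.id F (AdjoinRoot R))

theorem mem_symA {h : aeval (rinv R) R = 0} {a : AdjoinRoot R} : a ∈ symA h ↔ dmap R R h a = a := Iff.rfl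

/-- A norm whose restriction to the symmetrical part has non-square determinant. -/
theorem exists_norm (h2 : (2 : F) ≠ 0) (hR : R.Monic) (hdeg : R ≠ 1) (h0 : R.coeff 0 ≠ 0) (h : aeval (rinv R) R = 0)
    (hsym : ∀ a : AdjoinRoot R, dmap R R h a = a → a ≠ 0 → IsUnit a)
    {s : AdjoinRoot R} (hs : IsUnit s) (hss : dmap R R h s = -s) :
    ∃ (z : AdjoinRoot R) (M : symA h →ₗ[F] symA h), IsUnit z ∧ ¬ IsSquare (LinearMap.det M) ∧
      ∀ a : symA h, (M a : AdjoinRoot R) = z * dmap R R h z * a := by
  classical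
  set τ := dmap R R h
  haveI : Module.Finite F (AdjoinRoot R) := (AdjoinRoot.powerBasis hR.ne_zero).finite
  haveI : Finite (AdjoinRoot R) := Module.finite_of_finite F
  haveI : Nontrivial (AdjoinRoot R) := AdjoinRoot.nontrivial R fun hd => hdeg (hR.natDegree_eq_zero.1 (by
    rw [← natDegree_eq_zero_iff_degree_le_zero.2 hd.le]))
  have hττ : ∀ a, τ (τ a) = a := dmap_dmap h0 h0 h h
  have hfield : IsField (symA h) :=
    { exists_pair_ne := ⟨0, 1, zero_ne_one⟩
      mul_comm := mul_comm
      mul_inv_cancel := fun {a} ha => by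
        obtain ⟨b, hb⟩ := isUnit_iff_exists_inv.1 (hsym a.1 a.2 fun h' => ha (Subtype.ext h'))
        refine ⟨⟨b, ?_⟩, Subtype.ext hb⟩
        show τ b = b
        have h1 : a.1 * τ b = 1 := by
          conv_lhs => rw [show a.1 = τ a.1 from (mem_symA.1 a.2).symm]
          rw [← map_mul, hb, map_one]
        exact left_inv_eq_right_inv (by rw [mul_comm]; exact h1) hb }
  letI : Field (symA h) := hfield.toField
  haveI : Finite (symA h) := Subtype.finite
  letI : Fintype (symA h) := Fintype.ofFinite _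
  obtain ⟨ν, hν⟩ := FiniteField.exists_nonsquare (F := F) fun h3 => h2 (by
    haveI := ringChar.of_eq h3
    exact CharP.cast_eq_zero F 2)
  obtain ⟨t, ht⟩ := FiniteField.norm_surjective F (symA h) ν
  have hs2 : τ (s * s) = s * s := by rw [map_mul, hss, neg_mul_neg]
  let σ : symA h := ⟨s * s, hs2⟩
  have hσ0 : σ ≠ 0 := fun h' => by
    have := congrArg Subtype.val h'
    exact (hs.mul hs).ne_zero this
  have hodd : Fintype.card (symA h) % 2 = 1 := by
    refine FiniteField.odd_card_of_char_ne_two fun hc => h2 ?_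
    haveI := ringChar.of_eq hc
    have h3 : algebraMap F (symA h) 2 = 0 := by rw [map_ofNat]; exact CharTwo.two_eq_zero
    exact (FaithfulSMul.algebraMap_injective F (symA h)) (h3.trans (map_zero _).symm)
  obtain ⟨x, y, hxy⟩ := FiniteField.exists_root_sum_quadratic (f := (X : (symA h)[X]) ^ 2)
    (g := C (-σ) * X ^ 2 - C t) (by rw [degree_X_pow]; rfl)
    (by
      rw [degree_sub_eq_left_of_degree_lt]
      · rw [degree_C_mul_X_pow _ (neg_ne_zero.2 hσ0)]; rfl
      · rw [degree_C_mul_X_pow _ (neg_ne_zero.2 hσ0)]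
        exact lt_of_le_of_lt degree_C_le (by decide)) hodd
  simp only [eval_pow, eval_X, eval_sub, eval_mul, eval_C] at hxy
  set z : AdjoinRoot R := (x : AdjoinRoot R) + s * (y : AdjoinRoot R) with hz
  have hzz : z * τ z = (t : AdjoinRoot R) := by
    have h1 := congrArg (Subtype.val : symA h → AdjoinRoot R) hxy
    simp only [Subalgebra.coe_add, Subalgebra.coe_mul, Subalgebra.coe_sub, Subalgebra.coe_pow, Subalgebra.coe_neg,
      Subalgebra.coe_zero, σ] at h1
    rw [hz, map_add, map_mul, hss, mem_symA.1 x.2, mem_symA.1 y.2]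
    linear_combination h1
  have hν0 : ν ≠ 0 := fun h' => hν (h' ▸ IsSquare.zero)
  have ht0 : t ≠ 0 := fun h' => hν0 (by rw [← ht, h', Algebra.norm_zero])
  refine ⟨z, Algebra.lmul F (symA h) t, ?_, ?_, fun a => ?_⟩
  · exact isUnit_of_mul_isUnit_left (x := z) (y := τ z) (hzz ▸ hsym _ t.2 fun h' => ht0 (Subtype.ext h'))
  · rw [← Algebra.norm_apply, ht]; exact hν
  · rw [hzz]; rfl

/-- The witness inside the cyclic summand. -/
theorem exists_witness_core (h2 : (2 : F) ≠ 0) {N : ℕ} (hι : Fintype.card ι = N)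
    (hQ : (QuadraticMap.polarBilin Q).Nondegenerate) (g : OG) (hR : R.Monic) (hdeg : R ≠ 1) (h0 : R.coeff 0 ≠ 0)
    (h : aeval (rinv R) R = 0) (hsym : ∀ a : AdjoinRoot R, dmap R R h a = a → a ≠ 0 → IsUnit a)
    (hs : IsUnit (AdjoinRoot.root R - rinv R)) :
    ∀ v : Fin (triN hι hQ g).n → F, aeval (triN hι hQ g).g R v = 0 → (triN hι hQ g).B v v ≠ 0 →
    ∃ h' : OG, Commute g h' ∧ dick h' = 1 ∧ spin h' = -1 := by
  classical
  set T := triN hι hQ g with hT
  intro v hv hvv
  set τ := dmap R R h with hτ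
  set s := AdjoinRoot.root R - rinv R with hsdef
  have hττ : ∀ a, τ (τ a) = a := dmap_dmap h0 h0 h h
  have hτr : τ (AdjoinRoot.root R) = rinv R := dmap_root h
  have hss : τ s = -s := by
    have : τ (rinv R) = AdjoinRoot.root R := by rw [← hτr, hττ]
    rw [hsdef, map_sub, hτr, this, neg_sub]
  obtain ⟨z, M, hzu, hM, hMz⟩ := exists_norm h2 hR hdeg h0 h hsym hs hss
  haveI : Module.Finite F (AdjoinRoot R) := (AdjoinRoot.powerBasis hR.ne_zero).finite
  -- the functional
  let φ : AdjoinRoot R → F := fun c => T.B (T.ev hR v c) v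
  have hφτ : ∀ c, φ (τ c) = φ c := fun c => by
    show T.B (T.ev hR v (τ c)) v = T.B (T.ev hR v c) v
    conv_rhs => rw [T.sym, one_mul, B_self T hR h0 hv hv hR h]
  have hpair : ∀ a b, T.B (T.ev hR v a) (T.ev hR v b) = φ (a * τ b) := fun a b => adjoint T hR h0 hR h hv hv a b
  have hφ0 : ∀ {c}, φ c ≠ 0 → c ≠ 0 := fun {c} hc h' => hc (by
    show T.B (T.ev hR v c) v = 0
    rw [h', map_zero, map_zero, LinearMap.zero_apply])
  have hφ1 : φ 1 ≠ 0 := by
    show T.B (T.ev hR v 1) v ≠ 0
    rwa [ev_one T hR hv]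
  have hfaith : ∀ a, (∀ c, φ (a * c) = 0) → a = 0 := fun a ha => by
    have key : ∀ b, (∀ c, φ (b * c) = 0) → τ b = b → b = 0 := fun b hb hbs => by
      by_contra hne
      obtain ⟨c, hc⟩ := isUnit_iff_exists_inv.1 (hsym b hbs hne)
      exact hφ1 (by rw [← hc]; exact hb c)
    have h1 : a + τ a = 0 := key _ (fun c => by
      have e1 : φ (τ a * c) = 0 := by rw [← hφτ, map_mul, hττ]; exact ha _
      show T.B (T.ev hR v ((a + τ a) * c)) v = 0
      rw [add_mul, map_add, map_add, LinearMap.add_apply]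
      have e2 := ha c
      simp only [φ] at e1 e2
      rw [e1, e2, add_zero]) (by rw [map_add, hττ, add_comm])
    have h3 : a * s = 0 := key _ (fun c => by rw [mul_assoc]; exact ha _) (by
      rw [map_mul, hss]; linear_combination (-s) * h1)
    exact hs.mul_left_eq_zero.1 h3
  -- the two skew spaces
  let E : symA h →ₗ[F] (Fin T.n → F) :=
    (T.ev hR v).comp ((LinearMap.mulLeft F s).comp (symA h).val.toLinearMap)
  let E' : symA h →ₗ[F] (Fin T.n → F) :=
    (T.ev hR v).comp ((LinearMap.mulLeft F (z * s)).comp (symA h).val.toLinearMap)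
  let L : symA h →ₗ[F] (ι → F) := (coordsN hι F).toLinearMap.comp E
  let L' : symA h →ₗ[F] (ι → F) := (coordsN hι F).toLinearMap.comp E'
  set β := (QuadraticMap.polarBilin Q).compl₁₂ L L with hβdef
  set β' := (QuadraticMap.polarBilin Q).compl₁₂ L' L' with hβdef'
  have hβ : ∀ a b, β a b = φ (-(s * s) * ((a : AdjoinRoot R) * b)) := fun a b => by
    show T.B (T.ev hR v (s * a)) (T.ev hR v (s * b)) = _
    rw [hpair, map_mul, hss, mem_symA.1 b.2]; congr 1; ring
  have hβ' : β' = LinearMap.BilinForm.compLeft β M := LinearMap.ext fun a => LinearMap.ext fun b => by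
    rw [LinearMap.BilinForm.compLeft_apply, hβ, hMz]
    show T.B (T.ev hR v (z * s * a)) (T.ev hR v (z * s * b)) = _
    rw [hpair, map_mul, map_mul, hss, mem_symA.1 b.2]; congr 1; ring
  let bX := Module.finBasis F (symA h)
  set l := finrank F (symA h)
  have hgd : gramDet β' bX = LinearMap.det M * gramDet β bX := by
    rw [hβ', gramDet, gramDet, LinearMap.BilinForm.toMatrix_compLeft, Matrix.det_mul, Matrix.det_transpose,
      LinearMap.det_toMatrix]
  have hnd : β.Nondegenerate := by
    have h1 : ∀ a, (∀ b, β a b = 0) → a = 0 := fun a ha => by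
      by_contra hne
      obtain ⟨c, hc⟩ := isUnit_iff_exists_inv.1 ((hs.mul hs).mul (hsym a.1 a.2 fun h' => hne (Subtype.ext h')))
      have hcs : τ c = c := by
        refine left_inv_eq_right_inv (a := s * s * (a : AdjoinRoot R)) ?_ hc
        rw [mul_comm]
        calc s * s * (a : AdjoinRoot R) * τ c = τ (s * s * (a : AdjoinRoot R) * c) := by
              rw [map_mul, map_mul, map_mul, hss, mem_symA.1 a.2]; ring
          _ = 1 := by rw [hc, map_one]
      have h4 := ha ⟨c, hcs⟩
      rw [hβ, show -(s * s) * ((a : AdjoinRoot R) * c) = -(s * s * a * c) by ring, hc] at h4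
      simp only [φ, map_neg, LinearMap.neg_apply, neg_eq_zero] at h4
      exact hφ1 h4
    exact ⟨h1, fun a ha => h1 a fun b => by
      have := ha b
      rw [hβdef] at this ⊢
      simp only [LinearMap.compl₁₂_apply, QuadraticMap.polarBilin_apply_apply] at this ⊢
      rwa [QuadraticMap.polar_comm]⟩
  have hM0 : LinearMap.det M ≠ 0 := fun h' => hM (h' ▸ IsSquare.zero)
  have hnd' : β'.Nondegenerate := (LinearMap.BilinForm.nondegenerate_iff_det_ne_zero bX).2 (by
    show gramDet β' bX ≠ 0
    rw [hgd]; exact mul_ne_zero hM0 (gramDet_ne_zero hnd bX))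
  obtain ⟨r, hr, hr1, hrd, hrs⟩ := exists_refl_span h2 hQ bX L hnd
  obtain ⟨r', hr', hr1', hrd', hrs'⟩ := exists_refl_span h2 hQ bX L' hnd'
  refine ⟨r' * r, ?_, ?_, ?_⟩
  swap
  · rw [dick_mul_gen hQ (genQ_odd hQ h2), hrd, hrd', ← mul_pow]; simp
  swap
  · rw [spin_mul hQ, hrs, hrs', hgd, show (2 ^ l : F)⁻¹ * (LinearMap.det M * gramDet β bX) =
        LinearMap.det M * ((2 ^ l : F)⁻¹ * gramDet β bX) by ring,
      sqSign_mul hM0 (mul_ne_zero (inv_ne_zero (pow_ne_zero _ h2)) (gramDet_ne_zero hnd bX)), sqSign_of_not hM,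
      mul_assoc, Int.units_mul_self, mul_one]
  -- action
  obtain ⟨si, hsi⟩ := isUnit_iff_exists_inv.1 hs
  obtain ⟨half, hhalf⟩ : ∃ half : AdjoinRoot R, half * 2 = 1 :=
    ⟨algebraMap F _ (2 : F)⁻¹, by rw [← map_ofNat (algebraMap F (AdjoinRoot R)) 2, ← map_mul, inv_mul_cancel₀ h2, map_one]⟩
  have hτhalf : τ half = half := by
    refine left_inv_eq_right_inv (a := (2 : AdjoinRoot R)) ?_ (by rw [mul_comm]; exact hhalf)
    rw [← map_ofNat τ 2, ← map_mul, hhalf, map_one]
  have hτsi : τ si = -si := by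
    have h1 := congrArg τ hsi
    rw [map_mul, hss, map_one] at h1
    linear_combination -si * h1 - τ si * hsi
  obtain ⟨zi, hzi⟩ := isUnit_iff_exists_inv.1 hzu
  let w : AdjoinRoot R →ₗ[F] (ι → F) := (coordsN hι F).toLinearMap.comp (T.ev hR v)
  have hw : ∀ a, w a = coordsN hι F (T.ev hR v a) := fun a => rfl
  have hB : ∀ a b, PB (w a) (w b) = φ (a * τ b) := fun a b => hpair a b
  have hskew : ∀ c, τ c = -c → φ c = 0 := fun c hc => by
    have h1 := hφτ c
    rw [hc] at h1
    simp only [φ, map_neg, LinearMap.neg_apply] at h1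
    have h4 : (2 : F) * T.B (T.ev hR v c) v = 0 := by linear_combination -h1
    exact (mul_eq_zero.1 h4).resolve_left h2
  have hrw : ∀ a, ogVal r *ᵥ w a = w (τ a) := fun a => by
    have e : a = (a + τ a) * half + (a - τ a) * half := by linear_combination -a * hhalf
    have hq : τ (si * ((a - τ a) * half)) = si * ((a - τ a) * half) := by
      rw [map_mul, map_mul, map_sub, hττ, hτhalf, hτsi]; ring
    have h1 : ogVal r *ᵥ w ((a - τ a) * half) = -w ((a - τ a) * half) := by
      have h3 : L ⟨_, hq⟩ = w ((a - τ a) * half) := by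
        show w (s * (si * ((a - τ a) * half))) = _
        rw [← mul_assoc s si, hsi, one_mul]
      rw [← h3]; exact hr _
    have h3 : ogVal r *ᵥ w ((a + τ a) * half) = w ((a + τ a) * half) := hr1 _ fun x => by
      show PB (w ((a + τ a) * half)) (w (s * x)) = 0
      rw [hB]
      refine hskew _ ?_
      rw [map_mul, map_mul, hττ, map_add, hττ, hτhalf, map_mul, hss, mem_symA.1 x.2]
      ring
    conv_lhs => rw [e]
    rw [map_add, Matrix.mulVec_add, h1, h3, ← map_neg w, ← map_add]
    congr 1
    linear_combination (τ a) * hhalf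
  have hrw' : ∀ a, ogVal r' *ᵥ w (z * a) = w (z * τ a) := fun a => by
    have e : z * a = z * ((a + τ a) * half) + z * ((a - τ a) * half) := by linear_combination -(z * a) * hhalf
    have hq : τ (si * ((a - τ a) * half)) = si * ((a - τ a) * half) := by
      rw [map_mul, map_mul, map_sub, hττ, hτhalf, hτsi]; ring
    have h1 : ogVal r' *ᵥ w (z * ((a - τ a) * half)) = -w (z * ((a - τ a) * half)) := by
      have h3 : L' ⟨_, hq⟩ = w (z * ((a - τ a) * half)) := by
        show w (z * s * (si * ((a - τ a) * half))) = _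
        rw [mul_assoc z s, ← mul_assoc s si, hsi, one_mul]
      rw [← h3]; exact hr' _
    have h3 : ogVal r' *ᵥ w (z * ((a + τ a) * half)) = w (z * ((a + τ a) * half)) := hr1' _ fun x => by
      show PB (w (z * ((a + τ a) * half))) (w (z * s * x)) = 0
      rw [hB]
      refine hskew _ ?_
      have hx : τ (x : AdjoinRoot R) = x := mem_symA.1 x.2
      simp only [map_mul, map_add, hττ, hτhalf, hss, hx, mul_neg, neg_mul, map_neg]
      ring
    conv_lhs => rw [e]
    rw [map_add, Matrix.mulVec_add, h1, h3, ← map_neg w, ← map_add]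
    congr 1
    linear_combination (z * τ a) * hhalf
  have hhw : ∀ a, ogVal (r' * r) *ᵥ w a = w (z * τ zi * a) := fun a => by
    rw [ogVal_mul, ← Matrix.mulVec_mulVec, hrw, ← one_mul (τ a), ← hzi, mul_assoc, hrw', map_mul τ, hττ, mul_assoc]
  have hgw : ∀ a, ogVal g *ᵥ w a = w (AdjoinRoot.root R * a) := fun a => by
    have h1 := ev_root_pow_mul T hR hv 1 a
    rw [pow_one, pow_one] at h1
    rw [hw, hw, h1]
    exact (triN_g hι hQ g _).symm
  set W := LinearMap.range w with hW
  have hrefl : (QuadraticMap.polarBilin Q).IsRefl := fun x y hxy => by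
    rw [QuadraticMap.polarBilin_apply_apply, QuadraticMap.polar_comm]; exact hxy
  have hcompl : IsCompl W (LinearMap.BilinForm.orthogonal (QuadraticMap.polarBilin Q) W) := by
    refine (LinearMap.BilinForm.isCompl_orthogonal_iff_disjoint hrefl).2 ?_
    rw [Submodule.disjoint_def]
    rintro _ ⟨a, rfl⟩ ha
    rw [hfaith a fun c => ?_, map_zero]
    have h1 : PB (w (τ c)) (w a) = 0 := ha _ ⟨τ c, rfl⟩
    rw [QuadraticMap.polar_comm, hB, hττ] at h1
    exact h1
  refine ogVal_ext (Matrix.ext_iff_mulVec.2 fun x => ?_)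
  obtain ⟨_, ⟨a, rfl⟩, y, hy, rfl⟩ :
      ∃ p ∈ W, ∃ y ∈ LinearMap.BilinForm.orthogonal (QuadraticMap.polarBilin Q) W, p + y = x :=
    Submodule.mem_sup.1 (hcompl.sup_eq_top ▸ Submodule.mem_top)
  have hfix : ∀ u, (∀ b, PB (w b) u = 0) → ogVal (r' * r) *ᵥ u = u := fun u hu => by
    rw [ogVal_mul, ← Matrix.mulVec_mulVec, hr1 u fun x => ?_, hr1' u fun x => ?_]
    · rw [QuadraticMap.polar_comm]; exact hu _
    · rw [QuadraticMap.polar_comm]; exact hu _
  have hy0 : ∀ b, PB (w b) y = 0 := fun b => hy _ ⟨b, rfl⟩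
  have hgy : ∀ b, PB (w b) (ogVal g *ᵥ y) = 0 := fun b => by
    have e : w b = ogVal g *ᵥ w (rinv R * b) := by
      rw [hgw, ← mul_assoc, root_mul_rinv h0, one_mul]
    rw [e, isometry_polar (ogVal_quad g)]
    exact hy0 _
  rw [ogVal_mul g (r' * r), ogVal_mul (r' * r) g, ← Matrix.mulVec_mulVec, ← Matrix.mulVec_mulVec, Matrix.mulVec_add, Matrix.mulVec_add,
    Matrix.mulVec_add, Matrix.mulVec_add, hgw, hhw, hhw, hgw, hfix y hy0, hfix _ hgy, mul_left_comm]

end Algebra

end Cfsg.Agent.Block.OddOrth
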